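import Groth.Agent.BunMod.K656.Closed2

/-!
# `exists_kfit` (helper656)
-/

set_option autoImplicit false
set_option linter.unusedSectionVars false
universe u
open CategoryTheory CategoryTheory.Limits AlgebraicGeometry TopologicalSpace Opposite Module

namespace K656.Main

open Groth.Agent Groth.Agent.VarietyA.DegRank K707.Base K707.Deg K707.Slope K707.Semi K707.TensL K708.Coho K708.SSH0
open K708.PtTwist K703.Duality K656.Hom K656.Num K656.Abs K656.Fib K140.BM LoccohB.HHmap LoccohB.SectLin303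
open K656.Setup K656.Good K311.KE K656.Fit

attribute [local instance] overF

variable {k : Type u} [Field k] {X : Scheme.{u}} [X.Over (Spec (CommRingCat.of k))]
  [IsProper (X ↘ Spec (CommRingCat.of k))] [Smooth (X ↘ Spec (CommRingCat.of k))]
  [GeometricallyConnected (X ↘ Spec (CommRingCat.of k))]
  [IsAlgClosed k] (hdim : topologicalKrullDim X = 1)

include hdim in
theorem kfit {S : KSet X} {g N M : ℤ} (B : Base k S g N M)
    {r : ℕ} (n : Nums g N M r) (hr : 0 < r) {a b : ℕ} (hN : 0 < N) (ha : (a : ℤ) = r * (N + 1 - g))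
    (hb : (b : ℤ) = r * (M + 1 - g)) : KFit k S r a b := by
  have hr0 : (0 : ℤ) < r := by exact_mod_cast hr
  have hg0 : 0 ≤ g := by rw [← B.genus]; positivity
  have n0 := n.n0
  have hM : N + 2 * g - 1 < M := by
    have := n.n1
    nlinarith [mul_nonneg hN.le hr0.le]
  refine ⟨?_, ?_, ?_, ?_, ?_, ?_, ?_, ?_, ?_, ?_⟩
  · have : (0 : ℤ) < a := by rw [ha]; exact mul_pos hr0 (by omega)
    exact_mod_cast this
  · have : (0 : ℤ) < b := by rw [hb]; exact mul_pos hr0 (by omega)
    exact_mod_cast this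
  · intro Ω _ _ s
    exact (homBasis_iff _).mpr (bas_cst s S.invertible₂ B.invN₂ S.inv₂.some S.invertible₁ B.bas)
  · intro Ω _ _ s E hE
    letI := isIntegral_F (X := X) s
    letI := isProper_F (X := X) s
    obtain ⟨h1, h2, h3, h4⟩ := (ssb_iff hdim s).mp hE
    exact Abs.van₁ (sett hdim B s) n h1 h2 h3 h4 hr
  · intro Ω _ _ s E hE
    letI := isIntegral_F (X := X) s
    letI := isProper_F (X := X) s
    obtain ⟨h1, h2, h3, h4⟩ := (ssb_iff hdim s).mp hE
    exact Abs.van₂ (sett hdim B s) n h1 h2 h3 h4 hr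
  · intro Ω _ _ s E hE
    letI := isIntegral_F (X := X) s
    letI := isProper_F (X := X) s
    obtain ⟨h1, h2, h3, h4⟩ := (ssb_iff hdim s).mp hE
    have h5 := Abs.finrank₁ (sett hdim B s) n h1 h2 h3 h4 hr
    obtain ⟨v, hv⟩ := exists_bas (sett hdim B s).invI₁ (sett hdim B s).e₁ (coh_of_vb h1)
      (a := a) (by have := h5.trans ha.symm; exact_mod_cast this)
    exact ⟨v, (homBasis_iff _).mpr hv⟩
  · intro Ω _ _ s E hE
    letI := isIntegral_F (X := X) s
    letI := isProper_F (X := X) s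
    obtain ⟨h1, h2, h3, h4⟩ := (ssb_iff hdim s).mp hE
    have h5 := Abs.finrank₂ (sett hdim B s) n h1 h2 h3 h4 hr
    obtain ⟨v, hv⟩ := exists_bas (sett hdim B s).invI₂ (sett hdim B s).e₂ (coh_of_vb h1)
      (a := b) (by have := h5.trans hb.symm; exact_mod_cast this)
    exact ⟨v, (homBasis_iff _).mpr hv⟩
  · intro Ω _ _ s E hE v w hv hw α h
    exact pres hdim B n hr s hE v w hv hw α h
  · intro Ω _ _ s α h
    exact king hdim B n hr ha hb Ω s α h
  · intro R _ _ _ _ hbij α hgen hK
    exact Closed.closed hdim B n hr hN ha hb hbij α hgen hK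

/-- Invertible modules of every degree. -/
theorem exists_inv_deg [IsIntegral X] (C : Crv k X) (d : ℤ) : ∃ A : X.Modules, PicF.IsInvertible A ∧ dg k A = d := by
  obtain ⟨A, hA, h⟩ := exists_inv_ge C d
  obtain ⟨n, hn⟩ := Int.eq_ofNat_of_zero_le (a := dg k A - d) (by omega)
  obtain ⟨L, i, -, hL, h2⟩ := exists_sub_inv C n hA
  exact ⟨L, hL, by omega⟩

include hdim in
/-- **Kronecker modules for semistable bundles of rank `r` and degree `0`.** -/
theorem exists_kfit (r : ℕ) (hr : 0 < r) : ∃ (S : KSet X) (a b : ℕ), KFit k S r a b := by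
  letI := isIntegral_X k X
  have C : Crv k X := Crv.of_smooth hdim
  let g : ℤ := Curv2.genus k X
  have hg : 0 ≤ g := by positivity
  have hr0 : (1 : ℤ) ≤ r := by exact_mod_cast hr
  let N : ℤ := 2 * g * (r + 1) + 1
  have hN1 : 1 ≤ N := by
    have : 0 ≤ 2 * g * (r + 1) := by positivity
    omega
  have hN2 : 2 * g ≤ N - 1 := by
    have : 2 * g * 1 ≤ 2 * g * (r + 1) := mul_le_mul_of_nonneg_left (by linarith) (by positivity)
    simp only [N]
    linarith
  have hN3 : g * (r + 1) < N := by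
    have : 0 ≤ g * (r + 1) := by positivity
    simp only [N]
    linarith
  let M : ℤ := N * (r + 1) + 2 * g + r * N * (N + 1) + N * (N + 1)
  have hM0 : 0 ≤ N * (r + 1) := by positivity
  have hM1 : 0 ≤ r * N * (N + 1) := by positivity
  have hM2 : 0 ≤ N * (N + 1) := by positivity
  have hM3 : N * (N + 1 - g) ≤ N * (N + 1) := mul_le_mul_of_nonneg_left (by linarith) (by omega)
  have hM4 : r * N * (N + 1 - g) ≤ r * N * (N + 1) := mul_le_mul_of_nonneg_left (by linarith) (by positivity)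
  have n : Nums g N M r := by
    refine ⟨by omega, ?_, by omega, ?_, ?_, ?_⟩
    · simp only [M]; linarith
    · simp only [M]; linarith
    · have h1 : (M + 1 - g) * 1 ≤ (M + 1 - g) * (N + 1 - 2 * g) := mul_le_mul_of_nonneg_left (by linarith)
        (by simp only [M]; linarith)
      have h2 : N * (N + 1 - g) < (M + 1 - g) * 1 := by
        simp only [M]
        linarith
      linarith
    · have hM5 : N * 2 ≤ N * (r + 1) := mul_le_mul_of_nonneg_left (by linarith) (by omega)
      simp only [M]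
      linarith
  obtain ⟨A₁, hA₁, d₁⟩ := exists_inv_deg C N
  obtain ⟨A₂, hA₂, d₂⟩ := exists_inv_deg C M
  obtain ⟨L₁, hL₁, -, e₁, f₁⟩ := exists_inv C hA₁
  obtain ⟨L₂, hL₂, -, e₂, f₂⟩ := exists_inv C hA₂
  obtain ⟨s, hs⟩ := exists_bas (k := k) (L := L₂) (F := L₁) hA₂ e₂.some (coh_inv hL₁) (a := finrank k (L₂ ⟶ L₁)) rfl
  let S : KSet X :=
    { L₁ := L₁, L₂ := L₂, h := finrank k (L₂ ⟶ L₁), s := s, N₁ := A₁, N₂ := A₂, inv₁ := e₁, inv₂ := e₂
      invertible₁ := hL₁, invertible₂ := hL₂ }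
  have B : Base k S g N M :=
    { genus := rfl
      dg₁ := by
        change Curv2.deg k X L₁ 1 = -N
        rw [← dg_of_rank k (rank_one_iff.mpr hL₁), f₁, d₁]
      dg₂ := by
        change Curv2.deg k X L₂ 1 = -M
        rw [← dg_of_rank k (rank_one_iff.mpr hL₂), f₂, d₂]
      invN₁ := hA₁
      invN₂ := hA₂
      bas := hs }
  have ha0 : 0 ≤ r * (N + 1 - g) := mul_nonneg (by omega) (by omega)
  have hb0 : 0 ≤ r * (M + 1 - g) := mul_nonneg (by omega) (by simp only [M]; linarith)
  exact ⟨S, (r * (N + 1 - g)).toNat, (r * (M + 1 - g)).toNat, kfit hdim B n hr (by omega) (Int.toNat_of_nonneg ha0)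
    (Int.toNat_of_nonneg hb0)⟩

end K656.Main
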