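import Groth.Agent.BunMod.K656.Num
import Groth.Agent.CohqB.TwistMono
import Groth.Agent.VBCurve.K708.Embed
import Groth.Agent.VBCurve.K708.InvH0

/-!
# `Hom(L, F)` for an invertible module `L` on a curve (helper656)

With `L ⊗ L' ≅ O`:
* `homLin`: `(L ⟶ F) ≃ₗ[k] H⁰(F ⊗ L')`;
* `exists_lift`: if `H¹(S.X₁ ⊗ L') = 0` then `Hom(L, S.X₂) → Hom(L, S.X₃)` is onto;
* `van_of_hom`: `H¹(F ⊗ L') = 0` if there are no nonzero maps from `F` to invertible modules of degree `deg w + deg L`;
* `Gen L F`: `F` is generated by the maps `L ⟶ F`; `gen_of_hom`;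
* `finrank_hom_of_van`: Riemann-Roch;
* `finrank_hom_le`: `dim Hom(L, F) ≤ rk F · (1 - deg L)` if `F` has no invertible submodule of positive degree.
-/

set_option autoImplicit false
set_option linter.unusedSectionVars false
universe u
open CategoryTheory CategoryTheory.Limits AlgebraicGeometry TopologicalSpace Opposite Module

namespace K656.Hom

open Groth.Agent Groth.Agent.VarietyA.DegRank K707.Base K707.Deg K707.Slope K707.Semi K707.TensL K708.Coho K708.SSH0
open K708.PtTwist K708.Coprod K703.Duality Groth.Agent.CurvesB.Pairing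
open Groth.Agent.VarietyA.TwistDown Groth.Agent.VarietyA.TwistSeq Groth.Agent.VarietyA.RegPoint
open scoped Groth.Agent.Dcoh.MonCat

section general

variable (k : Type u) [Field k] {X : Scheme.{u}} [X.Over (Spec (CommRingCat.of k))]

/-- Tensoring with an invertible module on homomorphisms. -/
noncomputable def tensLin {L : X.Modules} (hL : PicF.IsInvertible L) (M N : X.Modules) :
    (M ⟶ N) ≃ₗ[k] ((T L).obj M ⟶ (T L).obj N) :=
  LinearEquiv.ofBijective
    { toFun := fun f => (T L).map f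
      map_add' := fun f g => (T L).map_add
      map_smul' := fun a f => by
        rw [RingHom.id_apply]
        exact K706.HomFin.smul_whiskerRight k a f L }
    (by
      have := isEquivalence hL
      exact ⟨(T L).map_injective, (T L).map_surjective⟩)

variable {L L' : X.Modules} (hL' : PicF.IsInvertible L') (e : CohB1.tensorMod L L' ≅ Coh.structureModule X)

/-- `Hom(L, F) = H⁰(F ⊗ L')`. -/
noncomputable def homLin (F : X.Modules) : (L ⟶ F) ≃ₗ[k] Coh.HH X (CohB1.tensorMod F L') 0 :=
  ((tensLin k hL' L F).trans (Linear.homCongr k e (Iso.refl _))).trans (K704.HomK.homEquiv k _)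

include hL' e in
theorem finrank_hom_eq (F : X.Modules) : finrank k (L ⟶ F) = finrank k (Coh.HH X (CohB1.tensorMod F L') 0) :=
  (homLin k hL' e F).finrank_eq

include hL' e in
theorem finite_hom [IsProper (X ↘ (Spec (CommRingCat.of k)))] {F : X.Modules} (hF : Coh.IsCoh F) :
    Module.Finite k (L ⟶ F) := by
  have := finite_HH k (coh_tensor (rank_one_iff.mpr hL') hF) 0
  exact Module.Finite.equiv (homLin k hL' e F).symm

end general

section lifts

variable {X : Scheme.{u}}

/-- Lifting maps from the structure sheaf. -/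
theorem exists_lift_unit {S : ShortComplex X.Modules} (hS : S.ShortExact)
    (h : Subsingleton (Coh.HH X S.X₁ 1)) (u : Coh.structureModule X ⟶ S.X₃) :
    ∃ v : Coh.structureModule X ⟶ S.X₂, v ≫ S.g = u := by
  obtain ⟨y, hy⟩ := CohqB.TwistMono.surjective_of_H1 hS h (u.app ⊤ (Dcoh.Restrict.one ⊤))
  refine ⟨secHom S.X₂ y, Dcoh.Restrict.unit_hom_ext _ _ ?_⟩
  change S.g.app ⊤ (homSec (secHom S.X₂ y)) = _
  rw [homSec_secHom]
  exact hy

theorem preserves_map {L' : X.Modules} (hL' : PicF.IsInvertible L') {S : ShortComplex X.Modules}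
    (hS : S.ShortExact) : (S.map (T L')).ShortExact := by
  have := isEquivalence hL'
  exact hS.map_of_exact (T L')

theorem exists_lift {L L' : X.Modules} (hL' : PicF.IsInvertible L')
    (e : CohB1.tensorMod L L' ≅ Coh.structureModule X) {S : ShortComplex X.Modules} (hS : S.ShortExact)
    (h : Subsingleton (Coh.HH X (CohB1.tensorMod S.X₁ L') 1)) (u : L ⟶ S.X₃) : ∃ v : L ⟶ S.X₂, v ≫ S.g = u := by
  have := isEquivalence hL'
  obtain ⟨v', hv'⟩ := exists_lift_unit (preserves_map hL' hS) h (e.inv ≫ (T L').map u)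
  obtain ⟨v, hv⟩ := (T L').map_surjective (e.hom ≫ v' : (T L').obj L ⟶ (T L').obj S.X₂)
  refine ⟨v, (T L').map_injective ?_⟩
  have h2 : v' ≫ (T L').map S.g = e.inv ≫ (T L').map u := hv'
  have h3 : (T L').map v ≫ (T L').map S.g = (e.hom ≫ v') ≫ (T L').map S.g :=
    congrArg (fun t => t ≫ (T L').map S.g) hv
  have h4 : (e.hom ≫ v') ≫ (T L').map S.g = e.hom ≫ v' ≫ (T L').map S.g := Category.assoc _ _ _
  have h5 : e.hom ≫ v' ≫ (T L').map S.g = e.hom ≫ e.inv ≫ (T L').map u := congrArg (e.hom ≫ ·) h2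
  have h6 : e.hom ≫ e.inv ≫ (T L').map u = (T L').map u := e.hom_inv_id_assoc _
  rw [Functor.map_comp]
  exact h3.trans (h4.trans (h5.trans h6))

/-- `F` is generated by the maps `L ⟶ F`. -/
def Gen (L F : X.Modules) : Prop := ∀ (Z : X.Modules) (t : F ⟶ Z), (∀ u : L ⟶ F, u ≫ t = 0) → t = 0

theorem Gen.of_epi {L F G : X.Modules} (h : Gen L F) (p : F ⟶ G) [Epi p] : Gen L G := by
  intro Z t ht
  rw [← cancel_epi p, comp_zero]
  exact h Z _ fun u => by rw [← Category.assoc]; exact ht _

end lifts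

variable {k : Type u} [Field k] {X : Scheme.{u}} [X.Over (Spec (CommRingCat.of k))] [IsIntegral X]
  [IsProper (X ↘ (Spec (CommRingCat.of k)))]

theorem dg_inv (C : Crv k X) {L L' : X.Modules} (hL : PicF.IsInvertible L) (hL' : PicF.IsInvertible L')
    (e : CohB1.tensorMod L L' ≅ Coh.structureModule X) : dg k L' = - dg k L := by
  have h1 := dg_iso k e
  rw [dg_structureModule, dg_tensor k C.dim (rank_one_iff.mpr hL') (coh_inv hL), rk_inv hL] at h1
  push_cast at h1
  linarith

theorem dg_tensor_inv (C : Crv k X) {F L : X.Modules} (hL : PicF.IsInvertible L) (hF : Coh.IsCoh F) :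
    dg k (CohB1.tensorMod F L) = dg k F + rk F * dg k L := by
  rw [dg_tensor k C.dim (rank_one_iff.mpr hL) hF]
  push_cast
  ring

theorem rk_tensor_inv {F L : X.Modules} (hL : PicF.IsInvertible L) (hF : Coh.IsCoh F) :
    rk (CohB1.tensorMod F L) = rk F := by
  rw [rk_tensor (rank_one_iff.mpr hL) hF, one_mul]

theorem inv_tensor {X : Scheme.{u}} {L M : X.Modules} (hM : PicF.IsInvertible M) (hL : PicF.IsInvertible L) :
    PicF.IsInvertible (CohB1.tensorMod M L) := Groth.Agent.Fdesc.LocGen.isInvertible_tensorMod hM hL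

/-- The criterion for the vanishing of `H¹(F ⊗ L')`. -/
theorem van_of_hom' (D : Dualizing k X) {F L L' : X.Modules}
    (hL' : PicF.IsInvertible L') (e : CohB1.tensorMod L L' ≅ Coh.structureModule X) (hF : Coh.IsCoh F)
    (h : ∀ f : F ⟶ CohB1.tensorMod D.w L, f = 0) :
    Subsingleton (Coh.HH X (CohB1.tensorMod F L') 1) := by
  have := isEquivalence hL'
  refine D.subsingleton_h1 (coh_tensor (rank_one_iff.mpr hL') hF).1 fun φ => ?_
  let i : D.w ≅ (T L').obj ((T L).obj D.w) := ((PerfB.TensInv.tensorInvIso e).app D.w).symm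
  obtain ⟨ψ, hψ⟩ := (T L').map_surjective (φ ≫ i.hom : (T L').obj F ⟶ (T L').obj ((T L).obj D.w))
  have e0 : ψ = 0 := h ψ
  have e1 : (T L').map ψ = 0 := by rw [e0]; exact (T L').map_zero _ _
  rw [← cancel_mono i.hom, zero_comp]
  exact hψ.symm.trans e1

theorem dg_w_tensor (C : Crv k X) (D : Dualizing k X) {L : X.Modules} (hL : PicF.IsInvertible L) :
    dg k (CohB1.tensorMod D.w L) = dg k D.w + dg k L := by
  rw [dg_tensor_inv C hL (coh_inv D.inv), rk_inv D.inv]; push_cast; ring

theorem van_of_hom (C : Crv k X) (D : Dualizing k X) {F L L' : X.Modules} (hL : PicF.IsInvertible L)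
    (hL' : PicF.IsInvertible L') (e : CohB1.tensorMod L L' ≅ Coh.structureModule X) (hF : Coh.IsCoh F)
    (h : ∀ M : X.Modules, PicF.IsInvertible M → dg k M = dg k D.w + dg k L → ∀ f : F ⟶ M, f = 0) :
    Subsingleton (Coh.HH X (CohB1.tensorMod F L') 1) :=
  van_of_hom' D hL' e hF (h _ (inv_tensor D.inv hL) (dg_w_tensor C D hL))

/-- The criterion for generation by `L`. -/
theorem gen_of_hom [IsAlgClosed k] (C : Crv k X) (D : Dualizing k X) {F L L' : X.Modules} (hL : PicF.IsInvertible L)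
    (hL' : PicF.IsInvertible L') (e : CohB1.tensorMod L L' ≅ Coh.structureModule X) (hF : Coh.IsCoh F)
    (h : ∀ M : X.Modules, PicF.IsInvertible M → dg k M ≤ dg k D.w + 1 + dg k L → ∀ f : F ⟶ M, f = 0) :
    Gen L F := by
  have := isEquivalence hL'
  obtain ⟨I, p₀, hp₀⟩ := K703.GlobGen.isGloballyGenerated_of C D (E := CohB1.tensorMod F L')
    (coh_tensor (rank_one_iff.mpr hL') hF) (fun M hM hd f => by
      let i : M ≅ (T L').obj ((T L).obj M) := ((PerfB.TensInv.tensorInvIso e).app M).symm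
      obtain ⟨ψ, hψ⟩ := (T L').map_surjective (f ≫ i.hom : (T L').obj F ⟶ (T L').obj ((T L).obj M))
      have h0 : ψ = 0 := h _ (inv_tensor hM hL)
        (by rw [dg_tensor_inv C hL (coh_inv hM), rk_inv hM]; push_cast; linarith) ψ
      have e1 : (T L').map ψ = 0 := by rw [h0]; exact (T L').map_zero _ _
      rw [← cancel_mono i.hom, zero_comp]
      exact hψ.symm.trans e1)
  let p : (∐ fun _ : I => Coh.structureModule X) ⟶ CohB1.tensorMod F L' := p₀
  have hp : Epi p := hp₀
  intro Z t ht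
  apply (T L').map_injective
  have key : p ≫ (T L').map t = 0 := by
    apply Sigma.hom_ext
    intro j
    refine Eq.trans ?_ comp_zero.symm
    obtain ⟨u, hu⟩ := (T L').map_surjective
      (e.hom ≫ Sigma.ι (fun _ : I => Coh.structureModule X) j ≫ p : (T L').obj L ⟶ (T L').obj F)
    have h1 := ht u
    have h2 : (T L').map u ≫ (T L').map t = 0 := by
      rw [← Functor.map_comp, h1]
      exact (T L').map_zero _ _
    have h3 : (e.hom ≫ Sigma.ι (fun _ : I => Coh.structureModule X) j ≫ p) ≫ (T L').map t = 0 :=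
      (congrArg (fun y => y ≫ (T L').map t) hu).symm.trans h2
    have h4 : e.hom ≫ Sigma.ι (fun _ : I => Coh.structureModule X) j ≫ p ≫ (T L').map t = 0 := by
      rw [← h3, Category.assoc, Category.assoc]
    have h5 := congrArg (fun y => e.inv ≫ y) h4
    simpa only [Iso.inv_hom_id_assoc, comp_zero] using h5
  refine Eq.trans ?_ ((T L').map_zero _ _).symm
  have h6 : p ≫ (T L').map t = p ≫ (0 : CohB1.tensorMod F L' ⟶ (T L').obj Z) := key.trans comp_zero.symm
  exact (cancel_epi p).mp h6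

/-- Riemann-Roch for `Hom(L, F)`. -/
theorem finrank_hom_of_van (C : Crv k X) {F L L' : X.Modules} (hL : PicF.IsInvertible L)
    (hL' : PicF.IsInvertible L') (e : CohB1.tensorMod L L' ≅ Coh.structureModule X) (hF : Coh.IsCoh F)
    (h : Subsingleton (Coh.HH X (CohB1.tensorMod F L') 1)) :
    (finrank k (L ⟶ F) : ℤ) =
      dg k F + rk F * (Curv2.euler k X (Coh.structureModule X) - dg k L) := by
  rw [finrank_hom_eq k hL' e F]
  have h1 := K705.Setup.euler_eq C (CohB1.tensorMod F L')
  rw [Module.finrank_zero_of_subsingleton (M := Coh.HH X (CohB1.tensorMod F L') 1), euler_eq_dg,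
    dg_tensor_inv C hL' hF, rk_tensor_inv hL' hF, dg_inv C hL hL' e] at h1
  push_cast at h1
  linarith

theorem finrank_h0_iso {M N : X.Modules} (e : M ≅ N) :
    finrank k (Coh.HH X M 0) = finrank k (Coh.HH X N 0) := by
  rw [← K704.HomK.finrank_hom, ← K704.HomK.finrank_hom]
  exact (Linear.homCongr k (Iso.refl _) e).finrank_eq

/-- `dim Hom(L, w ⊗ L) = h⁰(w)`. -/
theorem finrank_hom_w (D : Dualizing k X) {L L' : X.Modules}
    (hL' : PicF.IsInvertible L') (e : CohB1.tensorMod L L' ≅ Coh.structureModule X) :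
    finrank k (L ⟶ CohB1.tensorMod D.w L) = finrank k (Coh.HH X D.w 0) := by
  rw [finrank_hom_eq k hL' e]
  exact finrank_h0_iso ((PerfB.TensInv.tensorInvIso e).app D.w)

/-- Maps between invertible modules vanish if the degree drops. -/
theorem eq_zero_of_dg_lt (C : Crv k X) {L M : X.Modules} (hL : PicF.IsInvertible L) (hM : PicF.IsInvertible M)
    (h : dg k M < dg k L) (f : L ⟶ M) : f = 0 := by
  by_contra hf
  have := mono_of_rank_one C (rank_one_iff.mpr hL) (vb_of_inv hM) f hf
  have h1 := dg_le_of_mono C f (coh_inv hL) (coh_inv hM) (by rw [rk_inv hL, rk_inv hM])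
  omega

/-- Submodules of smaller degree. -/
theorem exists_sub_inv [IsAlgClosed k] (C : Crv k X) (n : ℕ) {L : X.Modules} (hL : PicF.IsInvertible L) :
    ∃ (L₁ : X.Modules) (i : L₁ ⟶ L), Mono i ∧ PicF.IsInvertible L₁ ∧ dg k L₁ = dg k L - n := by
  induction n with
  | zero => exact ⟨L, 𝟙 L, inferInstance, hL, by simp⟩
  | succ n ih =>
    obtain ⟨L₁, i, hi, h1, h2⟩ := ih
    obtain ⟨x, hx⟩ := exists_closedPoint k (X := X)
    have hs := Groth.Agent.VarietyA.RegPoint.resMap_surjective k X hx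
    exact ⟨_, (vanish L₁ x).ι ≫ i, mono_comp _ _, invertible_vanish C h1 hx, by
      rw [K708.RatPt.dg_vanish C h1 hx hs, h2]; push_cast; ring⟩

/-- `dim Hom(L, G) ≤ rk G · (1 - deg L)` if all invertible submodules of `G` have nonpositive degree. -/
theorem finrank_hom_le [IsAlgClosed k] (C : Crv k X) {L L' G : X.Modules} (hL : PicF.IsInvertible L)
    (hL' : PicF.IsInvertible L') (e : CohB1.tensorMod L L' ≅ Coh.structureModule X)
    (hG : FlatMod.IsFinLocFree G) (hneg : dg k L ≤ 0)
    (h : ∀ (I : X.Modules) (i : I ⟶ G), Mono i → PicF.IsInvertible I → dg k I ≤ 0) :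
    (finrank k (L ⟶ G) : ℤ) ≤ rk G * (1 - dg k L) := by
  have hd := dg_inv C hL hL' e
  obtain ⟨n, hn⟩ := Int.eq_ofNat_of_zero_le (a := 1 - dg k L) (by omega)
  obtain ⟨L₁, i, hi, h1, h2⟩ := exists_sub_inv C n hL'
  have hd1 : dg k L₁ = -1 := by omega
  obtain ⟨B, hB, -, ⟨eB⟩, hdB⟩ := exists_inv C h1
  have h3 : ∀ f : B ⟶ G, f = 0 := fun f => by
    by_contra hf
    have hm := mono_of_rank_one C (rank_one_iff.mpr hB) hG f hf
    have := h B f hm hB
    omega
  have h4 : finrank k (Coh.HH X (CohB1.tensorMod G L₁) 0) = 0 := by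
    rw [← finrank_hom_eq k h1 eB]
    have : Subsingleton (B ⟶ G) := ⟨fun a b => by rw [h3 a, h3 b]⟩
    exact Module.finrank_zero_of_subsingleton
  have h5 := K708.Embed.h0_tensor_le C hL' h1 i hG
  rw [finrank_h0_iso (Ega2.Tens.swap L' G), finrank_h0_iso (Ega2.Tens.swap L₁ G), h4,
    ← finrank_hom_eq k hL' e] at h5
  have h6 : dg k L' - dg k L₁ = 1 - dg k L := by omega
  rw [h6] at h5
  simpa using h5

/-- Coherent quotients of `L^n` have degree at least `rk · deg L`. -/
theorem dg_ge_of_epi (C : Crv k X) {L G : X.Modules} (hL : PicF.IsInvertible L) {n : ℕ} (hG : Coh.IsCoh G)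
    (p : (∐ fun _ : Fin n => L) ⟶ G) [Epi p] : rk G * dg k L ≤ dg k G := by
  obtain ⟨hc, hr, hd⟩ := Num.coprod_numbers C (coh_inv hL) n
  obtain ⟨n1, n2⟩ := epi_numbers C p hc hG
  have h2 := Num.dg_le_of_mono_coprod C hL (coh_kernel C p hc hG) (kernel.ι p)
  rw [hr, rk_inv hL, mul_one] at n1
  rw [hd] at n2
  have h3 : (rk (kernel p) : ℤ) = n - rk G := by omega
  rw [h3] at h2
  nlinarith

end K656.Hom
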