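import Groth.Agent.BunMod.K656.Fib

/-!
# The setting over the geometric fibres (helper656)
-/

set_option autoImplicit false
set_option linter.unusedSectionVars false
universe u
open CategoryTheory CategoryTheory.Limits AlgebraicGeometry TopologicalSpace Opposite Module

namespace K656.Setup

open Groth.Agent Groth.Agent.VarietyA.DegRank K707.Base K707.Deg K707.Slope K707.Semi K707.TensL K708.Coho K708.SSH0
open K708.PtTwist K703.Duality K656.Hom K656.Num K656.Abs K656.Fib K140.BM LoccohB.HHmap LoccohB.SectLin303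

attribute [local instance] overF

variable {k : Type u} [Field k] {X : Scheme.{u}} [X.Over (Spec (CommRingCat.of k))]
  [IsProper (X ↘ Spec (CommRingCat.of k))]

section basis

variable {Ω : Type u} [Field Ω] (s : Spec (CommRingCat.of Ω) ⟶ B0 k)

theorem isField_Γ (κ : Type u) [Field κ] : IsField Γ(Spec (CommRingCat.of κ), ⊤) :=
  MulEquiv.isField (Field.toIsField κ) (Scheme.ΓSpecIso (CommRingCat.of κ)).commRingCatIsoToRingEquiv.toMulEquiv

/-- Functionals separate points. -/
theorem sep_of_isField {A A' : Type*} [CommRing A] [AddCommGroup A'] [Module A A'] (h : IsField A) (c : A')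
    (hc : ∀ l : A' →ₗ[A] A, l c = 0) : c = 0 := by
  let := h.toField
  exact (Module.forall_dual_apply_eq_zero_iff A c).mp hc

variable {A F A' : X.Modules}

omit [IsProper (X ↘ Spec (CommRingCat.of k))] in
/-- Linear independence over the geometric fibre. -/
theorem injective_cst (hF : Coh.IsQCoh F) {n : ℕ} (e : Fin n → (A ⟶ F))
    (he : Function.Injective (Fintype.linearCombination k e)) :
    Function.Injective (Fintype.linearCombination Ω fun i =>
      (Scheme.Modules.pullback (pullback.fst (st k X) (tpt s).hom)).map (e i)) := by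
  rw [injective_iff_map_eq_zero]
  intro c hc
  let σk := (Scheme.ΓSpecIso (CommRingCat.of k)).commRingCatIsoToRingEquiv
  let σ := (Scheme.ΓSpecIso (CommRingCat.of Ω)).commRingCatIsoToRingEquiv
  have h1 := BasBC.injective_pull (isPullback_fst (X := X) s) (by
      intro c hc
      let := (s.appLE ⊤ ⊤ le_top).hom.toAlgebra
      exact sep_of_isField (isField_Γ k) c hc) hF e
    (fun c hc => by
      have h2 : Fintype.linearCombination k e (fun i => σk (c i)) = 0 := by
        rw [Fintype.linearCombination_apply, ← hc]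
        refine Finset.sum_congr rfl fun i _ => ?_
        rw [smul_bridge]
        congr 2
        exact σk.symm_apply_apply (c i)
      have h3 := he (h2.trans (map_zero _).symm)
      funext i
      have h4 := congrFun h3 i
      exact (map_eq_zero_iff σk σk.injective).mp h4)
    (fun i => σ.symm (c i)) (by
      rw [Fintype.linearCombination_apply] at hc
      exact hc)
  funext i
  exact (map_eq_zero_iff σ.symm σ.symm.injective).mp (congrFun h1 i)

variable [Smooth (X ↘ Spec (CommRingCat.of k))] [GeometricallyConnected (X ↘ Spec (CommRingCat.of k))]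

theorem finrank_hom_cst (hA : PicF.IsInvertible A) (hA' : PicF.IsInvertible A')
    (e : CohB1.tensorMod A A' ≅ Coh.structureModule X) (hF : PicF.IsInvertible F) :
    finrank Ω (cst k (tpt s) A ⟶ cst k (tpt s) F) = finrank k (A ⟶ F) := by
  have := isIntegral_F (X := X) s
  have := isProper_F (X := X) s
  have := isIntegral_X k X
  let p := pullback.fst (st k X) (tpt s).hom
  let eΩ : CohB1.tensorMod (cst k (tpt s) A) (cst k (tpt s) A') ≅ Coh.structureModule (XF k X s) :=
    (Ega3B.PullTensor.pullTensorIso p hA hA').symm ≪≫ (Scheme.Modules.pullback p).mapIso e ≪≫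
      (Ega3B.PullTensor.nonempty_pullUnitIso p).some
  rw [finrank_hom_eq Ω (inv_cst hA') eΩ, finrank_hom_eq k hA' e,
    finrank_h0_iso (Ega3B.PullTensor.pullTensorIso p hF hA').symm]
  obtain ⟨φ, rfl⟩ : ∃ φ, s = Spec.map φ := ⟨_, (Spec.map_preimage s).symm⟩
  let : Algebra k Ω := φ.hom.toAlgebra
  exact K524.Num.finrank_baseChange k X Ω (XF k X (Spec.map φ)) (pullback.fst (st k X) (tpt (Spec.map φ)).hom)
    (isPullback_fst (X := X) (Spec.map φ)) (CohB1.tensorMod F A') (coh_tensor (rank_one_iff.mpr hA') (coh_inv hF)).1 0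

/-- Bases of `Hom(A, F)` remain bases over the geometric fibre. -/
theorem bas_cst (hA : PicF.IsInvertible A) (hA' : PicF.IsInvertible A')
    (e : CohB1.tensorMod A A' ≅ Coh.structureModule X) (hF : PicF.IsInvertible F) {n : ℕ} {v : Fin n → (A ⟶ F)}
    (hv : Bas (k := k) v) : Bas (k := Ω) fun i =>
      (Scheme.Modules.pullback (pullback.fst (st k X) (tpt s).hom)).map (v i) := by
  have hinj := injective_cst s (coh_inv hF).1 v hv.1
  refine ⟨hinj, ?_⟩
  have h1 := finrank_hom_cst s hA hA' e hF
  have := isIntegral_F (X := X) s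
  have := isProper_F (X := X) s
  let p := pullback.fst (st k X) (tpt s).hom
  let eΩ : CohB1.tensorMod (cst k (tpt s) A) (cst k (tpt s) A') ≅ Coh.structureModule (XF k X s) :=
    (Ega3B.PullTensor.pullTensorIso p hA hA').symm ≪≫ (Scheme.Modules.pullback p).mapIso e ≪≫
      (Ega3B.PullTensor.nonempty_pullUnitIso p).some
  have hf := finite_hom Ω (inv_cst hA') eΩ (coh_inv (inv_cst (T := tpt s) hF))
  have h2 : finrank k (A ⟶ F) = n := by
    rw [← (LinearEquiv.ofBijective _ hv).finrank_eq, Module.finrank_fintype_fun_eq_card, Fintype.card_fin]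
  rw [h2] at h1
  rw [← LinearMap.range_eq_top]
  refine Submodule.eq_top_of_finrank_eq ?_
  rw [LinearMap.finrank_range_of_inj hinj, Module.finrank_fintype_fun_eq_card, Fintype.card_fin]
  exact h1.symm

end basis

variable [Smooth (X ↘ Spec (CommRingCat.of k))] [GeometricallyConnected (X ↘ Spec (CommRingCat.of k))]

variable (k) in
/-- The data over `k`. -/
structure Base (S : KSet X) (g N M : ℤ) : Prop where
  genus : (Curv2.genus k X : ℤ) = g
  dg₁ : Curv2.deg k X S.L₁ 1 = -N
  dg₂ : Curv2.deg k X S.L₂ 1 = -M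
  invN₁ : PicF.IsInvertible S.N₁
  invN₂ : PicF.IsInvertible S.N₂
  bas : Bas (k := k) S.s

section sett

variable [IsAlgClosed k] (hdim : topologicalKrullDim X = 1) {S : KSet X} {g N M : ℤ} (B : Base k S g N M)
  {Ω : Type u} [Field Ω] [IsAlgClosed Ω] (s : Spec (CommRingCat.of Ω) ⟶ B0 k)

/-- The trivialization over the fibre. -/
noncomputable def trivF {T : Over (B0 k)} {A A' : X.Modules} (hA : PicF.IsInvertible A) (hA' : PicF.IsInvertible A')
    (e : CohB1.tensorMod A A' ≅ Coh.structureModule X) :
    CohB1.tensorMod (cst k T A) (cst k T A') ≅ Coh.structureModule (PicF.XT (st k X) T) :=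
  (Ega3B.PullTensor.pullTensorIso _ hA hA').symm ≪≫ (Scheme.Modules.pullback _).mapIso e ≪≫
    (Ega3B.PullTensor.nonempty_pullUnitIso _).some

/-- **The setting over the fibre.** -/
noncomputable def sett :
    letI := isIntegral_F (X := X) s
    letI := isProper_F (X := X) s
    Sett Ω (XF k X s) :=
  letI := isIntegral_F (X := X) s
  letI := isProper_F (X := X) s
  letI := smooth_F (X := X) s
  letI := isIntegral_X k X
  { C := crv_F s hdim
    D := (nonempty_dualizing Ω (XF k X s) (dim_F s hdim)).some
    L₁ := cst k (tpt s) S.L₁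
    L₂ := cst k (tpt s) S.L₂
    I₁ := cst k (tpt s) S.N₁
    I₂ := cst k (tpt s) S.N₂
    inv₁ := inv_cst S.invertible₁
    inv₂ := inv_cst S.invertible₂
    invI₁ := inv_cst B.invN₁
    invI₂ := inv_cst B.invN₂
    e₁ := trivF S.invertible₁ B.invN₁ S.inv₁.some
    e₂ := trivF S.invertible₂ B.invN₂ S.inv₂.some
    h := S.h
    s := fun i => (Scheme.Modules.pullback (pullback.fst (st k X) (tpt s).hom)).map (S.s i)
    span := fun x => by
      obtain ⟨c, hc⟩ := (bas_cst s S.invertible₂ B.invN₂ S.inv₂.some S.invertible₁ B.bas).2 x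
      exact ⟨c, by rw [← hc, Fintype.linearCombination_apply]⟩
    g := g
    N := N
    M := M
    dgw := by
      rw [dg_of_rank Ω (rank_one_iff.mpr (nonempty_dualizing Ω (XF k X s) (dim_F s hdim)).some.inv),
        Dualizing.deg_w_of_isAlgClosed _ (dim_F s hdim), genus_F, B.genus]
    eulO := by rw [euler_structure Ω (XF k X s) (dim_F s hdim), genus_F, B.genus]
    h0w := by rw [Dualizing.h0_w, genus_F, B.genus]
    dg₁ := by
      have h := dg_cst s hdim S.invertible₁
      rw [dg_of_rank k (rank_one_iff.mpr S.invertible₁), B.dg₁] at h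
      exact h
    dg₂ := by
      have h := dg_cst s hdim S.invertible₂
      rw [dg_of_rank k (rank_one_iff.mpr S.invertible₂), B.dg₂] at h
      exact h }

end sett

section ssb

variable [IsAlgClosed k] (hdim : topologicalKrullDim X = 1) {Ω : Type u} [Field Ω] [IsAlgClosed Ω]
  (s : Spec (CommRingCat.of Ω) ⟶ B0 k) {E : (XF k X s).Modules} {r : ℕ}

include hdim in
theorem ssb_iff :
    letI := isIntegral_F (X := X) s
    letI := isProper_F (X := X) s
    SSB r s E ↔ FlatMod.IsFinLocFree E ∧ rk E = r ∧ dg Ω E = 0 ∧ SS Ω E := by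
  letI := isIntegral_F (X := X) s
  letI := isProper_F (X := X) s
  constructor
  · rintro ⟨h1, h2, h3⟩
    exact ⟨isFinLocFree_of_rank h1, rk_of_rank h1, (dg_of_rank Ω h1).trans h2, (ss_iff (crv_F s hdim) h1).mpr h3⟩
  · rintro ⟨h1, h2, h3, h4⟩
    have h5 : FlatMod.IsFinLocFreeOfRank r E := h2 ▸ isFinLocFreeOfRank_rk h1
    exact ⟨h5, (dg_of_rank Ω h5).symm.trans h3, (ss_iff (crv_F s hdim) h5).mp h4⟩

end ssb

end K656.Setup
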