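import Groth.Agent.BunMod.K656.Hom
import Groth.Agent.BunMod.K140.Defs2

/-!
# Kronecker modules of semistable bundles on a curve over an algebraically closed field (helper656)

`Sett`: a curve with `L₁` of degree `-N`, `L₂` of degree `-M` and a spanning family `s` of `Hom(L₂, L₁)`; `Nums`: the
inequalities. For `E` semistable of rank `r` and degree `0`:
* `van₁`, `van₂`, `exists_bas₁`, `exists_bas₂`: `H¹(E(N)) = 0`, `h⁰(E(N)) = r (N + 1 - g)`, ...;
* `pres_lift`: the presentation of `E` by its Kronecker module;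
* `king`: King's condition;
* `closed_abs`: if `α` satisfies King's condition and `F` is coherent of rank `r` and degree `0`, generated by a
  family with relations `α`, then `F` is a semistable bundle and the families are bases.
-/

set_option autoImplicit false
set_option linter.unusedSectionVars false
universe u
open CategoryTheory CategoryTheory.Limits AlgebraicGeometry TopologicalSpace Opposite Module

namespace K656.Abs

open Groth.Agent Groth.Agent.VarietyA.DegRank K707.Base K707.Deg K707.Slope K707.Semi K707.TensL K708.Coho K708.SSH0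
open K708.PtTwist K708.Coprod K703.Duality K656.Hom K656.Num K140.BM

/-- A basis of `Hom(L, F)`. -/
def Bas {k : Type u} [Field k] {X : Scheme.{u}} [X.Over (Spec (CommRingCat.of k))] {L F : X.Modules} {n : ℕ}
    (v : Fin n → (L ⟶ F)) : Prop := Function.Bijective (Fintype.linearCombination k v)

variable (k : Type u) [Field k] (X : Scheme.{u}) [X.Over (Spec (CommRingCat.of k))] [IsIntegral X]
  [IsProper (X ↘ (Spec (CommRingCat.of k)))]

/-- The setting. -/
structure Sett where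
  C : Crv k X
  D : Dualizing k X
  L₁ : X.Modules
  L₂ : X.Modules
  I₁ : X.Modules
  I₂ : X.Modules
  inv₁ : PicF.IsInvertible L₁
  inv₂ : PicF.IsInvertible L₂
  invI₁ : PicF.IsInvertible I₁
  invI₂ : PicF.IsInvertible I₂
  e₁ : CohB1.tensorMod L₁ I₁ ≅ Coh.structureModule X
  e₂ : CohB1.tensorMod L₂ I₂ ≅ Coh.structureModule X
  h : ℕ
  s : Fin h → (L₂ ⟶ L₁)
  span : ∀ x : L₂ ⟶ L₁, ∃ c : Fin h → k, x = ∑ i, c i • s i
  g : ℤ
  N : ℤ
  M : ℤ
  dgw : dg k D.w = 2 * g - 2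
  eulO : Curv2.euler k X (Coh.structureModule X) = 1 - g
  h0w : (finrank k (Coh.HH X D.w 0) : ℤ) = g
  dg₁ : dg k L₁ = -N
  dg₂ : dg k L₂ = -M

/-- The inequalities between the genus, `N`, `M` and the rank. -/
structure Nums (g N M : ℤ) (r : ℕ) : Prop where
  n0 : 2 * g ≤ N
  n1 : N * (r + 1) + 2 * g - 1 < M
  n2 : g * (r + 1) < N + 1
  n3 : r * N * (N + 1 - g) ≤ M + 1 - g
  n4 : N * (N + 1 - g) < (M + 1 - g) * (N + 1 - 2 * g)
  n5 : N < M

variable {k X}

section mix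

variable (S : Sett k X)

/-- The combination `Σ c_li s_i v_l`. -/
noncomputable def mix {Z : X.Modules} {d : ℕ} (v : Fin d → (S.L₁ ⟶ Z)) (c : Fin d → Fin S.h → k) : S.L₂ ⟶ Z :=
  ∑ l, ∑ i, c l i • (S.s i ≫ v l)

theorem mix_comp {Z Z' : X.Modules} {d : ℕ} (v : Fin d → (S.L₁ ⟶ Z)) (c : Fin d → Fin S.h → k) (t : Z ⟶ Z') :
    mix S v c ≫ t = mix S (fun l => v l ≫ t) c := by
  rw [mix, mix, Preadditive.sum_comp]
  refine Finset.sum_congr rfl fun l _ => ?_
  rw [Preadditive.sum_comp]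
  refine Finset.sum_congr rfl fun i _ => ?_
  rw [Linear.smul_comp, Category.assoc]

theorem exists_mix {d : ℕ} (u : S.L₂ ⟶ ∐ fun _ : Fin d => S.L₁) :
    ∃ c : Fin d → Fin S.h → k, u = mix S (fun l => Sigma.ι (fun _ : Fin d => S.L₁) l) c := by
  choose c hc using fun l => S.span (u ≫ proj (fun _ : Fin d => S.L₁) l)
  refine ⟨c, ?_⟩
  rw [eq_lift (fun _ : Fin d => S.L₁) u, lift, mix]
  refine Finset.sum_congr rfl fun l _ => ?_
  rw [hc l, Preadditive.sum_comp]
  refine Finset.sum_congr rfl fun i _ => ?_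
  rw [Linear.smul_comp]

/-- The relations `s_i v_l = Σ_j α_ijl w_j`. -/
def Rel {Z : X.Modules} {a b : ℕ} (α : Kr a b S.h k) (v : Fin a → (S.L₁ ⟶ Z)) (w : Fin b → (S.L₂ ⟶ Z)) : Prop :=
  ∀ l i, S.s i ≫ v l = ∑ j, α i j l • w j

variable {S}

/-- The coefficients of `mix`. -/
def coef {a b h : ℕ} (α : Kr a b h k) (c : Fin a → Fin h → k) : Fin b → k := fun j => ∑ l, ∑ i, c l i * α i j l

theorem Rel.mix_eq {Z : X.Modules} {a b : ℕ} {α : Kr a b S.h k} {v : Fin a → (S.L₁ ⟶ Z)}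
    {w : Fin b → (S.L₂ ⟶ Z)} (hr : Rel S α v w) (c : Fin a → Fin S.h → k) :
    mix S v c = Fintype.linearCombination k w (coef α c) := by
  rw [mix, Fintype.linearCombination_apply]
  simp only [coef, Finset.sum_smul]
  symm
  refine Finset.sum_comm.trans ?_
  refine Finset.sum_congr rfl fun l _ => ?_
  refine Finset.sum_comm.trans ?_
  refine Finset.sum_congr rfl fun i _ => ?_
  rw [hr l i, Finset.smul_sum]
  refine Finset.sum_congr rfl fun j _ => ?_
  rw [smul_smul]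

theorem Rel.comp {Z Z' : X.Modules} {a b : ℕ} {α : Kr a b S.h k} {v : Fin a → (S.L₁ ⟶ Z)}
    {w : Fin b → (S.L₂ ⟶ Z)} (hr : Rel S α v w) (t : Z ⟶ Z') : Rel S α (fun l => v l ≫ t) (fun j => w j ≫ t) := by
  intro l i
  rw [← Category.assoc, hr l i, Preadditive.sum_comp]
  refine Finset.sum_congr rfl fun j _ => ?_
  rw [Linear.smul_comp]

theorem lc_comp {L Z Z' : X.Modules} {n : ℕ} (v : Fin n → (L ⟶ Z)) (x : Fin n → k) (t : Z ⟶ Z') :
    Fintype.linearCombination k v x ≫ t = Fintype.linearCombination k (fun l => v l ≫ t) x := by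
  rw [Fintype.linearCombination_apply, Fintype.linearCombination_apply, Preadditive.sum_comp]
  refine Finset.sum_congr rfl fun j _ => ?_
  rw [Linear.smul_comp]

/-- `s_i ≫ v(x) = w(α_i x)`. -/
theorem Rel.lc {Z : X.Modules} {a b : ℕ} {α : Kr a b S.h k} {v : Fin a → (S.L₁ ⟶ Z)}
    {w : Fin b → (S.L₂ ⟶ Z)} (hr : Rel S α v w) (i : Fin S.h) (x : Fin a → k) :
    S.s i ≫ Fintype.linearCombination k v x = Fintype.linearCombination k w ((α i).mulVecLin x) := by
  rw [Fintype.linearCombination_apply, Fintype.linearCombination_apply, Preadditive.comp_sum]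
  simp only [Linear.comp_smul, hr _ i, Matrix.mulVecLin_apply, Matrix.mulVec, dotProduct, Finset.sum_smul,
    Finset.smul_sum, smul_smul]
  refine Finset.sum_comm.trans ?_
  refine Finset.sum_congr rfl fun j _ => Finset.sum_congr rfl fun l _ => ?_
  rw [mul_comm]

end mix

section bounds

variable (S : Sett k X) {r : ℕ} (n : Nums S.g S.N S.M r)

theorem Sett.g_nonneg : 0 ≤ S.g := by rw [← S.h0w]; positivity

include n

theorem hN : 0 ≤ S.N := by
  have := S.g_nonneg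
  have := n.n0
  omega

theorem hNM : S.N + 2 * S.g - 1 < S.M := by
  have := n.n1
  have h1 := hN S n
  have h2 : (0 : ℤ) ≤ r := by positivity
  nlinarith [mul_nonneg h1 h2]

/-- Quotients of `L₁^d` have vanishing `H¹(· ⊗ I₂)`. -/
theorem van_quot {G : X.Modules} (hG : Coh.IsCoh G) {d : ℕ} (p : (∐ fun _ : Fin d => S.L₁) ⟶ G) [Epi p] :
    Subsingleton (Coh.HH X (CohB1.tensorMod G S.I₂) 1) := by
  refine van_of_hom S.C S.D S.inv₂ S.invI₂ S.e₂ hG fun M hM hd f => ?_
  rw [← cancel_epi p, comp_zero]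
  apply Sigma.hom_ext
  intro l
  rw [comp_zero]
  refine eq_zero_of_dg_lt S.C S.inv₁ hM ?_ _
  rw [hd, S.dgw, S.dg₁, S.dg₂]
  have := hNM S n
  omega

theorem finrank_quot {G : X.Modules} (hG : Coh.IsCoh G) {d : ℕ} (p : (∐ fun _ : Fin d => S.L₁) ⟶ G) [Epi p] :
    (finrank k (S.L₂ ⟶ G) : ℤ) = dg k G + rk G * (S.M + 1 - S.g) := by
  rw [finrank_hom_of_van S.C S.inv₂ S.invI₂ S.e₂ hG (van_quot S n hG p), S.eulO, S.dg₂]
  ring

theorem lt_kernel {G : X.Modules} (hr : rk G ≤ r) (hd : dg k G ≤ 0) :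
    dg k S.D.w + 1 + dg k S.L₂ < (rk G + 1) * dg k S.L₁ - dg k G := by
  rw [S.dgw, S.dg₁, S.dg₂]
  have h1 := n.n1
  have h2 := hN S n
  have h3 : (rk G : ℤ) ≤ r := by exact_mod_cast hr
  nlinarith [mul_nonneg h2 (sub_nonneg.mpr h3)]

/-- Maps from `L₂` to quotients of `L₁^d` of nonpositive degree. -/
theorem exists_mix_quot {G : X.Modules} (hG : Coh.IsCoh G) (hr : rk G ≤ r) (hd : dg k G ≤ 0) {d : ℕ}
    (p : (∐ fun _ : Fin d => S.L₁) ⟶ G) [Epi p] (u : S.L₂ ⟶ G) :
    ∃ c : Fin d → Fin S.h → k, u = mix S (fun l => Sigma.ι (fun _ : Fin d => S.L₁) l ≫ p) c := by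
  have hK := vb_kernel S.C p (vb_coprod (vb_of_inv S.inv₁) d) hG
  have h1 : Subsingleton (Coh.HH X (CohB1.tensorMod (kernel p) S.I₂) 1) := by
    refine van_of_hom S.C S.D S.inv₂ S.invI₂ S.e₂ (coh_of_vb hK) fun M hM hd' f => ?_
    refine hom_kernel_eq_zero S.C S.inv₁ hM hG p ?_ f
    have := lt_kernel S n hr hd
    omega
  obtain ⟨u', hu'⟩ := exists_lift S.invI₂ S.e₂ (kernel_shortExact p) h1 u
  obtain ⟨c, hc⟩ := exists_mix S u'
  refine ⟨c, ?_⟩
  rw [← hu', ← mix_comp, ← hc]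

theorem gen_kernel [IsAlgClosed k] {G : X.Modules} (hG : Coh.IsCoh G) (hr : rk G ≤ r) (hd : dg k G ≤ 0) {d : ℕ}
    (p : (∐ fun _ : Fin d => S.L₁) ⟶ G) [Epi p] : Gen S.L₂ (kernel p) := by
  have hK := vb_kernel S.C p (vb_coprod (vb_of_inv S.inv₁) d) hG
  refine gen_of_hom S.C S.D S.inv₂ S.invI₂ S.e₂ (coh_of_vb hK) fun M hM hd' f => ?_
  refine hom_kernel_eq_zero S.C S.inv₁ hM hG p ?_ f
  have := lt_kernel S n hr hd
  omega

omit n in
/-- The bound for `Hom(L₁, G)`. -/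
theorem finrank_cases [IsAlgClosed k] (hN : 0 ≤ S.N) {G : X.Modules} (hG : FlatMod.IsFinLocFree G)
    (h : ∀ (I : X.Modules) (i : I ⟶ G), Mono i → PicF.IsInvertible I → dg k I ≤ 0) :
    (finrank k (S.L₁ ⟶ G) : ℤ) = dg k G + rk G * (S.N + 1 - S.g) ∨
      (finrank k (S.L₁ ⟶ G) : ℤ) ≤ (rk G - 1) * (S.N + 1) + S.g := by
  by_cases h1 : Subsingleton (Coh.HH X (CohB1.tensorMod G S.I₁) 1)
  · left
    rw [finrank_hom_of_van S.C S.inv₁ S.invI₁ S.e₁ (coh_of_vb hG) h1, S.eulO, S.dg₁]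
    ring
  · right
    have h2 : ∃ f : G ⟶ CohB1.tensorMod S.D.w S.L₁, f ≠ 0 := by
      by_contra hcon
      push Not at hcon
      exact h1 (van_of_hom' S.D S.invI₁ S.e₁ (coh_of_vb hG) hcon)
    obtain ⟨f, hf⟩ := h2
    have hw := inv_tensor S.D.inv S.inv₁
    obtain ⟨I, p, i, hp, hi, hpi, hI, hpos, e1, e2, e3, e4⟩ := exists_factor_pos S.C f hf (coh_of_vb hG)
      (vb_of_inv hw)
    rw [rk_inv hw] at e3
    have hK := vb_kernel S.C f hG (coh_inv hw)
    have f1 := finite_hom k S.invI₁ S.e₁ (coh_of_vb hG)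
    have f2 := finite_hom k S.invI₁ S.e₁ (coh_inv hw)
    have f3 := finite_hom k S.invI₁ S.e₁ (coh_of_vb hK)
    have h3 := finrank_hom_le S.C S.inv₁ S.invI₁ S.e₁ hK (by rw [S.dg₁]; omega)
      fun J j hj hJ => h J (j ≫ kernel.ι f) (mono_comp _ _) hJ
    have h4 := finrank_hom_w S.D S.invI₁ S.e₁
    let φ : (S.L₁ ⟶ G) →ₗ[k] (S.L₁ ⟶ CohB1.tensorMod S.D.w S.L₁) := Linear.rightComp k S.L₁ f
    let ψ : (S.L₁ ⟶ kernel f) →ₗ[k] (S.L₁ ⟶ G) := Linear.rightComp k S.L₁ (kernel.ι f)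
    have h5 : LinearMap.ker φ ≤ LinearMap.range ψ := by
      intro x hx
      exact ⟨kernel.lift f x hx, kernel.lift_ι f x hx⟩
    have h6 := LinearMap.finrank_range_add_finrank_ker φ
    have h7 := Submodule.finrank_mono h5
    have h8 := LinearMap.finrank_range_le ψ
    have h9 := Submodule.finrank_le (LinearMap.range φ)
    have h10 : (finrank k (S.L₁ ⟶ CohB1.tensorMod S.D.w S.L₁) : ℤ) = S.g := by rw [h4, S.h0w]
    have h11 : (rk (kernel f) : ℤ) = rk G - 1 := by omega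
    rw [h11, S.dg₁] at h3
    have h12 : (finrank k (S.L₁ ⟶ G) : ℤ) ≤ finrank k (S.L₁ ⟶ kernel f) + finrank k (S.L₁ ⟶ CohB1.tensorMod S.D.w S.L₁) := by
      exact_mod_cast (by omega : finrank k (S.L₁ ⟶ G) ≤ finrank k (S.L₁ ⟶ kernel f) + finrank k (S.L₁ ⟶ CohB1.tensorMod S.D.w S.L₁))
    rw [h10] at h12
    linarith

end bounds

section semistable

variable (S : Sett k X) {r : ℕ} (n : Nums S.g S.N S.M r) {E : X.Modules} (hE : FlatMod.IsFinLocFree E)
  (hrk : rk E = r) (hdg : dg k E = 0) (hss : SS k E)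

include hrk hdg hss

/-- Submodules of `E` have nonpositive degree. -/
theorem dg_sub_le (hr : 0 < r) {I : X.Modules} (i : I ⟶ E) [Mono i] (hI : FlatMod.IsFinLocFree I) : dg k I ≤ 0 := by
  have h := hss I i inferInstance hI
  rw [hrk, hdg, zero_mul] at h
  have : (0 : ℤ) < r := by exact_mod_cast hr
  nlinarith

include hE in
/-- Maps from `E` to invertible modules of negative degree vanish. -/
theorem hom_inv_eq_zero (hr : 0 < r) {M : X.Modules} (C : Crv k X) (hM : PicF.IsInvertible M) (hd : dg k M < 0) (f : E ⟶ M) :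
    f = 0 := by
  by_contra hf
  obtain ⟨I, p, i, hp, hi, hpi, hI, hpos, e1, e2, e3, e4⟩ := exists_factor_pos C f hf (coh_of_vb hE) (vb_of_inv hM)
  rw [rk_inv hM] at e3
  have h1 := dg_le_of_mono C i (coh_of_vb hI) (coh_inv hM) (by rw [rk_inv hM]; omega)
  have h2 := hss.quot C hE p (coh_of_vb hI)
  rw [hrk, hdg, zero_mul] at h2
  have : (0 : ℤ) < r := by exact_mod_cast hr
  nlinarith

include n hE

theorem van₁ (hr : 0 < r) : Subsingleton (Coh.HH X (CohB1.tensorMod E S.I₁) 1) := by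
  refine van_of_hom S.C S.D S.inv₁ S.invI₁ S.e₁ (coh_of_vb hE) fun M hM hd f => ?_
  refine hom_inv_eq_zero hE hrk hdg hss hr S.C hM ?_ f
  rw [hd, S.dgw, S.dg₁]
  have := n.n0
  omega

theorem van₂ (hr : 0 < r) : Subsingleton (Coh.HH X (CohB1.tensorMod E S.I₂) 1) := by
  refine van_of_hom S.C S.D S.inv₂ S.invI₂ S.e₂ (coh_of_vb hE) fun M hM hd f => ?_
  refine hom_inv_eq_zero hE hrk hdg hss hr S.C hM ?_ f
  rw [hd, S.dgw, S.dg₂]
  have h1 := hNM S n
  have h2 := n.n0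
  have h3 := S.g_nonneg
  have h4 := hN S n
  omega

theorem finrank₁ (hr : 0 < r) : (finrank k (S.L₁ ⟶ E) : ℤ) = r * (S.N + 1 - S.g) := by
  rw [finrank_hom_of_van S.C S.inv₁ S.invI₁ S.e₁ (coh_of_vb hE) (van₁ S n hE hrk hdg hss hr), S.eulO, S.dg₁, hrk, hdg]
  ring

theorem finrank₂ (hr : 0 < r) : (finrank k (S.L₂ ⟶ E) : ℤ) = r * (S.M + 1 - S.g) := by
  rw [finrank_hom_of_van S.C S.inv₂ S.invI₂ S.e₂ (coh_of_vb hE) (van₂ S n hE hrk hdg hss hr), S.eulO, S.dg₂, hrk, hdg]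
  ring

theorem gen₁ [IsAlgClosed k] (hr : 0 < r) : Gen S.L₁ E := by
  refine gen_of_hom S.C S.D S.inv₁ S.invI₁ S.e₁ (coh_of_vb hE) fun M hM hd f => ?_
  refine hom_inv_eq_zero hE hrk hdg hss hr S.C hM ?_ f
  rw [S.dgw, S.dg₁] at hd
  have := n.n0
  omega

omit n hE hrk hdg hss in
theorem exists_bas {L L' F : X.Modules} (hL' : PicF.IsInvertible L')
    (e : CohB1.tensorMod L L' ≅ Coh.structureModule X) (hF : Coh.IsCoh F) {a : ℕ} (ha : finrank k (L ⟶ F) = a) :
    ∃ v : Fin a → (L ⟶ F), Bas (k := k) v := by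
  have := finite_hom k hL' e hF
  let β := Module.finBasisOfFinrankEq k (L ⟶ F) ha
  refine ⟨fun i => β i, ?_, ?_⟩
  · exact linearIndependent_iff_injective_fintypeLinearCombination.mp β.linearIndependent
  · intro x
    exact ⟨β.repr x, by rw [Fintype.linearCombination_apply]; exact β.sum_repr x⟩

omit hrk hdg hss n hE in
theorem epi_desc {L F : X.Modules} (hg : Gen L F) {a : ℕ} (v : Fin a → (L ⟶ F))
    (hv : Function.Surjective (Fintype.linearCombination k v)) : Epi (Sigma.desc v : (∐ fun _ : Fin a => L) ⟶ F) := by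
  refine Preadditive.epi_of_cancel_zero _ fun {Z} t ht => hg Z t fun u => ?_
  obtain ⟨x, rfl⟩ := hv u
  rw [lc_comp, Fintype.linearCombination_apply]
  refine Finset.sum_eq_zero fun l _ => ?_
  have h1 : v l ≫ t = 0 := by
    have := congrArg (fun y => Sigma.ι (fun _ : Fin a => L) l ≫ y) ht
    simpa only [Sigma.ι_desc_assoc, comp_zero] using this
  rw [h1, smul_zero]

/-- **The presentation of `E` by its Kronecker module.** -/
theorem pres_lift [IsAlgClosed k] (hr : 0 < r) {a b : ℕ} {v : Fin a → (S.L₁ ⟶ E)} {w : Fin b → (S.L₂ ⟶ E)}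
    (hv : Bas (k := k) v) (hw : Bas (k := k) w) {α : Kr a b S.h k} (hrel : Rel S α v w) {Z : X.Modules}
    (v' : Fin a → (S.L₁ ⟶ Z)) (w' : Fin b → (S.L₂ ⟶ Z)) (hrel' : Rel S α v' w') :
    ∃ f : E ⟶ Z, (∀ l, v l ≫ f = v' l) ∧ ∀ j, w j ≫ f = w' j := by
  let p : (∐ fun _ : Fin a => S.L₁) ⟶ E := Sigma.desc v
  have hp : Epi p := epi_desc (gen₁ S n hE hrk hdg hss hr) v hv.2
  let p' : (∐ fun _ : Fin a => S.L₁) ⟶ Z := Sigma.desc v'
  have h0 : kernel.ι p ≫ p' = 0 := by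
    refine gen_kernel S n (coh_of_vb hE) hrk.le hdg.le p _ _ fun u => ?_
    obtain ⟨c, hc⟩ := exists_mix S (u ≫ kernel.ι p)
    have h1 : mix S v c = 0 := by
      have h2 : mix S (fun l => Sigma.ι (fun _ : Fin a => S.L₁) l) c ≫ p = 0 := by
        rw [← hc, Category.assoc, kernel.condition, comp_zero]
      rw [mix_comp] at h2
      simpa only [p, Sigma.ι_desc] using h2
    rw [hrel.mix_eq] at h1
    have h3 : coef α c = 0 := hw.1 (by rw [h1, map_zero])
    rw [← Category.assoc, hc, mix_comp]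
    have h4 : mix S (fun l => Sigma.ι (fun _ : Fin a => S.L₁) l ≫ p') c = mix S v' c := by
      simp only [p', Sigma.ι_desc]
    rw [h4, hrel'.mix_eq, h3, map_zero]
  have hS := kernel_shortExact p
  let f : E ⟶ Z := hS.exact.desc p' h0
  have hf : p ≫ f = p' := hS.exact.g_desc p' h0
  have hv' : ∀ l, v l ≫ f = v' l := fun l => by
    have := congrArg (fun y => Sigma.ι (fun _ : Fin a => S.L₁) l ≫ y) hf
    simpa only [p, p', Sigma.ι_desc_assoc, Sigma.ι_desc] using this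
  refine ⟨f, hv', fun j => ?_⟩
  obtain ⟨c, hc⟩ := exists_mix_quot S n (coh_of_vb hE) hrk.le hdg.le p (w j)
  have h1 : w j = mix S v c := by
    rw [hc]
    simp only [p, Sigma.ι_desc]
  have h2 : coef α c = Pi.single j 1 := hw.1 (by
    rw [← hrel.mix_eq, ← h1, Fintype.linearCombination_apply, Finset.sum_eq_single j]
    · rw [Pi.single_eq_same, one_smul]
    · intro i _ hi
      rw [Pi.single_eq_of_ne hi, zero_smul]
    · intro h
      exact absurd (Finset.mem_univ j) h)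
  rw [h1, mix_comp]
  simp only [hv']
  rw [hrel'.mix_eq, h2, Fintype.linearCombination_apply, Finset.sum_eq_single j]
  · rw [Pi.single_eq_same, one_smul]
  · intro i _ hi
    rw [Pi.single_eq_of_ne hi, zero_smul]
  · intro h
    exact absurd (Finset.mem_univ j) h

end semistable

end K656.Abs
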