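import Groth.Agent.BunMod.K656.Abs

/-!
# King's condition and the closedness of the good locus, absolute case (helper656)
-/

set_option autoImplicit false
set_option linter.unusedSectionVars false
universe u
open CategoryTheory CategoryTheory.Limits AlgebraicGeometry TopologicalSpace Opposite Module

namespace K656.Abs

open Groth.Agent Groth.Agent.VarietyA.DegRank K707.Base K707.Deg K707.Slope K707.Semi K707.TensL K708.Coho K708.SSH0
open K708.PtTwist K708.Coprod K703.Duality K656.Hom K656.Num K140.BM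

variable {k : Type u} [Field k] {X : Scheme.{u}} [X.Over (Spec (CommRingCat.of k))] [IsIntegral X]
  [IsProper (X ↘ (Spec (CommRingCat.of k)))]

section arith

theorem arithA {r ρ A B e d W a b : ℤ} (hr : 0 ≤ r) (hAB : A ≤ B) (hA : 0 ≤ A) (he : e ≤ 0)
    (ha : a = r * A) (hb : b = r * B) (hd : d ≤ e + ρ * A) (hW : e + ρ * B ≤ W) : b * d ≤ a * W := by
  subst ha hb
  have h1 : r * B * d ≤ r * B * (e + ρ * A) := mul_le_mul_of_nonneg_left hd (mul_nonneg hr (hA.trans hAB))
  have h2 : r * A * (e + ρ * B) ≤ r * A * W := mul_le_mul_of_nonneg_left hW (mul_nonneg hr hA)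
  have h3 : 0 ≤ r * (B - A) * (-e) := mul_nonneg (mul_nonneg hr (sub_nonneg.mpr hAB)) (neg_nonneg.mpr he)
  have h4 : r * A * (e + ρ * B) - r * B * (e + ρ * A) = r * (B - A) * (-e) := by ring
  linarith

theorem arithB {r ρ N g B e d W a b : ℤ} (hr : 0 ≤ r) (hg : 0 ≤ g) (hN : 0 ≤ N) (hA : 0 ≤ N + 1 - g) (hB : 0 ≤ B)
    (hρ : ρ ≤ r) (n2 : g * (r + 1) < N + 1) (n3 : r * N * (N + 1 - g) ≤ B) (he : ρ * -N ≤ e)
    (ha : a = r * (N + 1 - g)) (hb : b = r * B) (hd : d ≤ (ρ - 1) * (N + 1) + g) (hW : e + ρ * B ≤ W) :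
    b * d ≤ a * W := by
  subst ha hb
  have h1 : r * B * d ≤ r * B * ((ρ - 1) * (N + 1) + g) := mul_le_mul_of_nonneg_left hd (mul_nonneg hr hB)
  have h2 : r * (N + 1 - g) * (ρ * -N + ρ * B) ≤ r * (N + 1 - g) * W :=
    mul_le_mul_of_nonneg_left (by linarith) (mul_nonneg hr hA)
  have h3 : 1 ≤ N + 1 - g * (ρ + 1) := by nlinarith [mul_le_mul_of_nonneg_left hρ hg]
  have h4 : B * 1 ≤ B * (N + 1 - g * (ρ + 1)) := mul_le_mul_of_nonneg_left h3 hB
  have h5 : ρ * N * (N + 1 - g) ≤ r * N * (N + 1 - g) :=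
    mul_le_mul_of_nonneg_right (mul_le_mul_of_nonneg_right hρ hN) hA
  have h6 : r * (ρ * N * (N + 1 - g)) ≤ r * (B * (N + 1 - g * (ρ + 1))) :=
    mul_le_mul_of_nonneg_left (by linarith) hr
  have h7 : r * (N + 1 - g) * (ρ * -N + ρ * B) - r * B * ((ρ - 1) * (N + 1) + g) =
    r * (B * (N + 1 - g * (ρ + 1))) - r * (ρ * N * (N + 1 - g)) := by ring
  linarith

end arith

section king

variable (S : Sett k X) {r : ℕ} (n : Nums S.g S.N S.M r)

include n in
/-- **King's condition.** -/
theorem king [IsAlgClosed k] {E : X.Modules} (hE : FlatMod.IsFinLocFree E) (hrk : rk E = r) (hdg : dg k E = 0)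
    (hss : SS k E) (hr : 0 < r) {a b : ℕ} (ha : (a : ℤ) = r * (S.N + 1 - S.g)) (hb : (b : ℤ) = r * (S.M + 1 - S.g))
    {v : Fin a → (S.L₁ ⟶ E)} {w : Fin b → (S.L₂ ⟶ E)} (hv : Function.Injective (Fintype.linearCombination k v))
    (hw : Function.Injective (Fintype.linearCombination k w)) {α : Kr a b S.h k} (hrel : Rel S α v w) :
    IsKing α := by
  intro V'
  have fi1 := finite_hom k S.invI₁ S.e₁ (coh_of_vb hE)
  have fi2 := finite_hom k S.invI₂ S.e₂ (coh_of_vb hE)
  let W' : Submodule k (Fin b → k) := ⨆ l, V'.map (α l).mulVecLin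
  let d := finrank k V'
  let β : Basis (Fin d) k V' := Module.finBasis k V'
  let x : Fin d → (Fin a → k) := fun m => (β m : Fin a → k)
  let v' : Fin d → (S.L₁ ⟶ E) := fun m => Fintype.linearCombination k v (x m)
  let p : (∐ fun _ : Fin d => S.L₁) ⟶ E := Sigma.desc v'
  obtain ⟨G, q, i, hq, hi, hqi, hG, e1, e2, e3, e4⟩ :=
    exists_factor S.C p (coprod_numbers S.C (coh_inv S.inv₁) d).1 (coh_of_vb hE)
  have hGv : FlatMod.IsFinLocFree G := vb_of_mono S.C i hG hE
  have hGd : dg k G ≤ 0 := dg_sub_le hrk hdg hss hr i hGv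
  have hGr : rk G ≤ r := hrk ▸ rk_le_of_mono S.C i hG (coh_of_vb hE)
  have fi3 := finite_hom k S.invI₁ S.e₁ hG
  have fi4 := finite_hom k S.invI₂ S.e₂ hG
  have hv' : ∀ m, (Sigma.ι (fun _ : Fin d => S.L₁) m ≫ q) ≫ i = v' m := fun m => by
    rw [Category.assoc, hqi]
    exact Sigma.ι_desc _ _
  -- `Hom(L₂, G) ≤ W'`
  have hW : finrank k (S.L₂ ⟶ G) ≤ finrank k W' := by
    let φ : (S.L₂ ⟶ G) →ₗ[k] (S.L₂ ⟶ E) := Linear.rightComp k S.L₂ i
    have hφ : Function.Injective φ := fun y z h => (cancel_mono i).mp h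
    rw [← LinearMap.finrank_range_of_inj hφ]
    refine (Submodule.finrank_mono (t := W'.map (Fintype.linearCombination k w)) ?_).trans
      (Submodule.finrank_map_le _ _)
    rintro _ ⟨u, rfl⟩
    obtain ⟨c, hc⟩ := exists_mix_quot S n hG hGr hGd q u
    have h1 : φ u = mix S v' c := by
      change u ≫ i = _
      rw [hc, mix_comp]
      simp only [hv']
    rw [h1, mix]
    refine Submodule.sum_mem _ fun m _ => Submodule.sum_mem _ fun l _ => Submodule.smul_mem _ _ ?_
    rw [hrel.lc]
    exact Submodule.mem_map_of_mem (Submodule.mem_iSup_of_mem l (Submodule.mem_map_of_mem (β m).2))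
  -- `V' ≤ Hom(L₁, G)`
  have hV : finrank k V' ≤ finrank k (S.L₁ ⟶ G) := by
    let φ : (S.L₁ ⟶ G) →ₗ[k] (S.L₁ ⟶ E) := Linear.rightComp k S.L₁ i
    rw [(Submodule.equivMapOfInjective _ hv V').finrank_eq]
    refine (Submodule.finrank_mono (t := LinearMap.range φ) ?_).trans (LinearMap.finrank_range_le φ)
    rw [Submodule.map_le_iff_le_comap]
    intro y hy
    have h1 : y = ∑ m, β.repr ⟨y, hy⟩ m • x m := by
      have h2 := congrArg (V'.subtype) (β.sum_repr ⟨y, hy⟩)
      rw [map_sum] at h2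
      refine Eq.trans (Eq.symm (show V'.subtype ⟨y, hy⟩ = y from rfl)).symm.symm (h2.symm.trans ?_)
      refine Finset.sum_congr rfl fun m _ => ?_
      rw [map_smul]
      rfl
    rw [Submodule.mem_comap, h1, map_sum]
    refine Submodule.sum_mem _ fun m _ => ?_
    rw [map_smul]
    exact Submodule.smul_mem _ _ ⟨Sigma.ι (fun _ : Fin d => S.L₁) m ≫ q, hv' m⟩
  have hW2 := finrank_quot S n hG q
  have hgn := S.g_nonneg
  have hNn := hN S n
  have hNM' := hNM S n
  have n0 := n.n0
  have hr0 : (0 : ℤ) ≤ r := by positivity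
  have key : (b : ℤ) * finrank k V' ≤ a * finrank k W' := by
    have hW3 : dg k G + rk G * (S.M + 1 - S.g) ≤ (finrank k W' : ℤ) := by
      rw [← hW2]; exact_mod_cast hW
    by_cases h0 : rk G = 0
    · have hz := isZero_of_rk_eq_zero S.C hGv h0
      have : Subsingleton (S.L₁ ⟶ G) := ⟨fun y z => hz.eq_of_tgt _ _⟩
      rw [Module.finrank_zero_of_subsingleton (M := S.L₁ ⟶ G)] at hV
      have h1 : finrank k V' = 0 := by omega
      rw [h1, Nat.cast_zero, mul_zero]
      positivity
    · have hV' : (finrank k V' : ℤ) ≤ finrank k (S.L₁ ⟶ G) := by exact_mod_cast hV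
      rcases finrank_cases S hNn hGv (fun I j hj hI => dg_sub_le hrk hdg hss hr (j ≫ i) (vb_of_inv hI)) with h1 | h1
      · exact arithA hr0 (A := S.N + 1 - S.g) (B := S.M + 1 - S.g) (by omega) (by omega) hGd ha hb
          (by rw [← h1]; exact hV') hW3
      · refine arithB hr0 hgn hNn (by omega) (by omega : (0 : ℤ) ≤ S.M + 1 - S.g) (by exact_mod_cast hGr) n.n2 n.n3 ?_
          ha hb (hV'.trans h1) hW3
        have h2 := dg_ge_of_epi S.C S.inv₁ hG q
        rwa [S.dg₁] at h2
  exact_mod_cast key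

end king

section closed

variable (S : Sett k X) {r : ℕ} (n : Nums S.g S.N S.M r)

/-- King's condition for quotients. -/
theorem king_quot {a b : ℕ} {α : Kr a b S.h k} (hK : IsKing α) {Q : X.Modules} {v : Fin a → (S.L₁ ⟶ Q)}
    {w : Fin b → (S.L₂ ⟶ Q)} (hrel : Rel S α v w) :
    a * finrank k (LinearMap.range (Fintype.linearCombination k w)) ≤
      b * finrank k (LinearMap.range (Fintype.linearCombination k v)) := by
  have h1 := hK (LinearMap.ker (Fintype.linearCombination k v))
  have h2 : (⨆ l, (LinearMap.ker (Fintype.linearCombination k v)).map (α l).mulVecLin : Submodule k (Fin b → k)) ≤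
      LinearMap.ker (Fintype.linearCombination k w) := by
    refine iSup_le fun l => ?_
    rintro _ ⟨x, hx, rfl⟩
    rw [LinearMap.mem_ker, ← hrel.lc, LinearMap.mem_ker.mp hx, comp_zero]
  have h3 := Submodule.finrank_mono h2
  have h4 := LinearMap.finrank_range_add_finrank_ker (Fintype.linearCombination k v)
  have h5 := LinearMap.finrank_range_add_finrank_ker (Fintype.linearCombination k w)
  rw [Module.finrank_fintype_fun_eq_card, Fintype.card_fin] at h4 h5
  have h6 := h1.trans (Nat.mul_le_mul_left a h3)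
  set R1 := finrank k (LinearMap.range (Fintype.linearCombination k v))
  set R2 := finrank k (LinearMap.range (Fintype.linearCombination k w))
  set K1 := finrank k (LinearMap.ker (Fintype.linearCombination k v))
  set K2 := finrank k (LinearMap.ker (Fintype.linearCombination k w))
  have h7 : a * b = b * R1 + b * K1 := by rw [← mul_add, h4, mul_comm]
  have h8 : a * b = a * R2 + a * K2 := by rw [← mul_add, h5]
  omega

theorem arithC {N M g D : ℤ} {r : ℤ} (hr : 0 < r) (hA : 0 ≤ N + 1 - g) (hB : 0 ≤ M + 1 - g)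
    (n4 : N * (N + 1 - g) < (M + 1 - g) * (N + 1 - 2 * g))
    (hD : -N ≤ D) (h : r * (N + 1 - g) * (D + 1 * (M + 1 - g)) ≤ r * (M + 1 - g) * g) : False := by
  have h1 : r * ((N + 1 - g) * (D + (M + 1 - g))) ≤ r * ((M + 1 - g) * g) := by linarith
  have h2 := le_of_mul_le_mul_left h1 hr
  have h3 : (N + 1 - g) * (-N + (M + 1 - g)) ≤ (N + 1 - g) * (D + (M + 1 - g)) :=
    mul_le_mul_of_nonneg_left (by linarith) hA
  nlinarith

include n in
/-- **The good locus is closed in the locus of King's condition, absolute case.** -/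
theorem closed_abs [IsAlgClosed k] (hr : 0 < r) {a b : ℕ} (ha : (a : ℤ) = r * (S.N + 1 - S.g))
    (hb : (b : ℤ) = r * (S.M + 1 - S.g)) {α : Kr a b S.h k} (hK : IsKing α) {F : X.Modules} (hF : Coh.IsCoh F)
    (hrk : rk F = r) (hdg : dg k F = 0) {v : Fin a → (S.L₁ ⟶ F)} {w : Fin b → (S.L₂ ⟶ F)} (hrel : Rel S α v w)
    (joint : ∀ (Z : X.Modules) (t : F ⟶ Z), (∀ l, v l ≫ t = 0) → (∀ j, w j ≫ t = 0) → t = 0) :
    FlatMod.IsFinLocFree F ∧ SS k F ∧ Bas (k := k) v ∧ Bas (k := k) w := by
  have hgn := S.g_nonneg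
  have hNn := hN S n
  have hNM' := hNM S n
  have n0 := n.n0
  have hr0 : (0 : ℤ) < r := by exact_mod_cast hr
  have ha0 : (0 : ℤ) < a := by rw [ha]; exact mul_pos hr0 (by omega)
  have hb0 : (0 : ℤ) < b := by rw [hb]; exact mul_pos hr0 (by omega)
  -- `F` is a quotient of `L₁^a`
  let p : (∐ fun _ : Fin a => S.L₁) ⟶ F := Sigma.desc v
  have hp : Epi p := by
    refine Preadditive.epi_of_cancel_zero _ fun {Z} t ht => ?_
    have h1 : ∀ l, v l ≫ t = 0 := fun l => by
      have := congrArg (fun y => Sigma.ι (fun _ : Fin a => S.L₁) l ≫ y) ht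
      simpa only [p, Sigma.ι_desc_assoc, comp_zero] using this
    refine joint Z t h1 fun j => ?_
    have h2 := king_quot S hK (hrel.comp t)
    have h3 : Fintype.linearCombination k (fun l => v l ≫ t) = 0 := by
      ext x
      simp [Fintype.linearCombination_apply, h1]
    rw [h3, LinearMap.range_zero, finrank_bot, mul_zero] at h2
    have h4 : finrank k (LinearMap.range (Fintype.linearCombination k (fun j => w j ≫ t))) = 0 := by
      have ha1 : 0 < a := by exact_mod_cast ha0
      have := Nat.eq_zero_of_le_zero h2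
      rcases Nat.mul_eq_zero.mp this with h | h
      · omega
      · exact h
    have h5 := Submodule.finrank_eq_zero.mp h4
    have h6 : Fintype.linearCombination k (fun j => w j ≫ t) (Pi.single j 1) ∈
        LinearMap.range (Fintype.linearCombination k (fun j => w j ≫ t)) := ⟨_, rfl⟩
    rw [h5, Submodule.mem_bot, Fintype.linearCombination_apply_single, one_smul] at h6
    exact h6
  have hpv : ∀ l, Sigma.ι (fun _ : Fin a => S.L₁) l ≫ p = v l := fun l => Sigma.ι_desc _ _
  -- `W_Q = Hom(L₂, Q)`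
  have hWQ : ∀ (Q : X.Modules) (q : F ⟶ Q), Epi q → Coh.IsCoh Q → dg k Q ≤ 0 →
      LinearMap.range (Fintype.linearCombination k (fun j => w j ≫ q)) = ⊤ ∧
      (finrank k (LinearMap.range (Fintype.linearCombination k (fun j => w j ≫ q))) : ℤ) =
        dg k Q + rk Q * (S.M + 1 - S.g) := by
    intro Q q hq hQ hQd
    have hpq : Epi (p ≫ q) := epi_comp _ _
    have hQr : rk Q ≤ r := hrk ▸ rk_le_of_epi S.C q hF hQ
    have h1 : LinearMap.range (Fintype.linearCombination k (fun j => w j ≫ q)) = ⊤ := by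
      rw [LinearMap.range_eq_top]
      intro u
      obtain ⟨c, hc⟩ := exists_mix_quot S n hQ hQr hQd (p ≫ q) u
      refine ⟨coef α c, ?_⟩
      rw [hc, ← (hrel.comp q).mix_eq]
      simp only [← hpv, Category.assoc]
    refine ⟨h1, ?_⟩
    rw [h1, finrank_top]
    exact finrank_quot S n hQ (p ≫ q)
  have hking : ∀ (Q : X.Modules) (q : F ⟶ Q),
      (a : ℤ) * finrank k (LinearMap.range (Fintype.linearCombination k (fun j => w j ≫ q))) ≤
        b * finrank k (LinearMap.range (Fintype.linearCombination k (fun l => v l ≫ q))) := fun Q q => by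
    exact_mod_cast king_quot S hK (hrel.comp q)
  -- no maps to `w ⊗ L₁`
  have hw := inv_tensor S.D.inv S.inv₁
  have hno : ∀ f : F ⟶ CohB1.tensorMod S.D.w S.L₁, f = 0 := by
    intro f
    by_contra hf
    obtain ⟨I, q, i, hq, hi, hqi, hI, hpos, e1, e2, e3, e4⟩ := exists_factor_pos S.C f hf hF (vb_of_inv hw)
    rw [rk_inv hw] at e3
    have hI1 : rk I = 1 := by omega
    have h1 := dg_le_of_mono S.C i (coh_of_vb hI) (coh_inv hw) (by rw [hI1, rk_inv hw])
    rw [dg_w_tensor S.C S.D S.inv₁, S.dgw, S.dg₁] at h1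
    obtain ⟨-, h2⟩ := hWQ I q hq (coh_of_vb hI) (by omega)
    have hpq : Epi (p ≫ q) := epi_comp _ _
    have h3 := dg_ge_of_epi S.C S.inv₁ (coh_of_vb hI) (p ≫ q)
    rw [hI1, S.dg₁] at h3
    have h4 := hking I q
    rw [h2, hI1] at h4
    have fi1 := finite_hom k S.invI₁ S.e₁ (coh_inv hw)
    have fi2 := finite_hom k S.invI₁ S.e₁ (coh_of_vb hI)
    have h5 : finrank k (LinearMap.range (Fintype.linearCombination k (fun l => v l ≫ q))) ≤
        finrank k (S.L₁ ⟶ CohB1.tensorMod S.D.w S.L₁) := by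
      refine (Submodule.finrank_le _).trans ?_
      exact LinearMap.finrank_le_finrank_of_injective (f := Linear.rightComp k S.L₁ i)
        fun y z h => (cancel_mono i).mp h
    rw [finrank_hom_w S.D S.invI₁ S.e₁] at h5
    have h6 : (finrank k (LinearMap.range (Fintype.linearCombination k (fun l => v l ≫ q))) : ℤ) ≤ S.g := by
      rw [← S.h0w]; exact_mod_cast h5
    have h7 := h4.trans (mul_le_mul_of_nonneg_left h6 hb0.le)
    rw [ha, hb] at h7
    push_cast at h7 h3
    exact arithC hr0 (by omega) (by omega) n.n4 (by linarith) h7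
  have hvan : ∀ (Q : X.Modules) (q : F ⟶ Q), Epi q → Coh.IsCoh Q →
      Subsingleton (Coh.HH X (CohB1.tensorMod Q S.I₁) 1) := fun Q q hq hQ =>
    van_of_hom' S.D S.invI₁ S.e₁ hQ fun f => by
      rw [← cancel_epi q, hno (q ≫ f), comp_zero]
  have hfin : ∀ (Q : X.Modules) (q : F ⟶ Q), Epi q → Coh.IsCoh Q →
      (finrank k (S.L₁ ⟶ Q) : ℤ) = dg k Q + rk Q * (S.N + 1 - S.g) := fun Q q hq hQ => by
    rw [finrank_hom_of_van S.C S.inv₁ S.invI₁ S.e₁ hQ (hvan Q q hq hQ), S.eulO, S.dg₁]
    ring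
  -- degrees of quotients
  have hdeg : ∀ (Q : X.Modules) (q : F ⟶ Q), Epi q → Coh.IsCoh Q → 0 ≤ dg k Q := by
    intro Q q hq hQ
    by_contra hneg
    push Not at hneg
    obtain ⟨-, h2⟩ := hWQ Q q hq hQ hneg.le
    have h4 := hking Q q
    have fi2 := finite_hom k S.invI₁ S.e₁ hQ
    have h5 : (finrank k (LinearMap.range (Fintype.linearCombination k (fun l => v l ≫ q))) : ℤ) ≤
        finrank k (S.L₁ ⟶ Q) := by exact_mod_cast Submodule.finrank_le _
    rw [hfin Q q hq hQ] at h5
    have h7 := h4.trans (mul_le_mul_of_nonneg_left h5 hb0.le)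
    rw [h2, ha, hb] at h7
    have h8 : (r : ℤ) * ((S.M - S.N) * dg k Q) < 0 := by
      have n5 := n.n5
      have : (S.M - S.N) * dg k Q < 0 := mul_neg_of_pos_of_neg (by omega) hneg
      exact mul_neg_of_pos_of_neg hr0 this
    nlinarith
  -- `F` is a vector bundle
  have hNoeth := isNoetherian k (X := X)
  obtain ⟨T, Q, t, q, hw0, hS, hT, hQ, hT0, htf⟩ := exists_torsion hF
  have hq : Epi q := hS.epi_g
  have ht : Mono t := hS.mono_f
  have h1 := dg_add k _ hS hT hF hQ
  replace h1 : dg k F = dg k T + dg k Q := h1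
  have h2 := hdeg Q q hq hQ
  have hTz := isZero_of_dg_le_zero k S.C.dim hT hT0 (by omega)
  have hqm : Mono q := by
    refine Preadditive.mono_of_cancel_zero _ fun {Z} y hy => ?_
    have := hS.exact.lift_f y hy
    rw [← this]
    have h0 : hS.exact.lift y hy = 0 := hTz.eq_of_tgt _ _
    rw [h0, zero_comp]
  have hFv : FlatMod.IsFinLocFree F := vb_of_torsionFree S.C hF (isTorsionFree_of_mono q htf)
  have hFs : SS k F := ss_of_quot S.C hFv fun Q' q' hq' hQ' => by
    rw [hdg, zero_mul]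
    exact mul_nonneg (hdeg Q' q' hq' (coh_of_vb hQ')) (by positivity)
  refine ⟨hFv, hFs, ?_⟩
  -- the bases
  obtain ⟨h3, h4⟩ := hWQ F (𝟙 F) inferInstance hF hdg.le
  have h5 := hking F (𝟙 F)
  have h6 := hfin F (𝟙 F) inferInstance hF
  have ew : (fun j => w j ≫ 𝟙 F) = w := funext fun j => Category.comp_id _
  have ev : (fun l => v l ≫ 𝟙 F) = v := funext fun j => Category.comp_id _
  rw [ew] at h3 h4 h5
  rw [ev] at h5
  rw [h4, hdg, hrk, zero_add, ← hb] at h5
  rw [hdg, hrk, zero_add, ← ha] at h6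
  have fi1 := finite_hom k S.invI₁ S.e₁ hF
  have h7 : finrank k (S.L₁ ⟶ F) = a := by exact_mod_cast h6
  have h8 := LinearMap.finrank_range_add_finrank_ker (Fintype.linearCombination k v)
  have h9 := LinearMap.finrank_range_add_finrank_ker (Fintype.linearCombination k w)
  rw [Module.finrank_fintype_fun_eq_card, Fintype.card_fin] at h8 h9
  have h10 : (a : ℤ) ≤ finrank k (LinearMap.range (Fintype.linearCombination k v)) := by
    have : (b : ℤ) * a ≤ b * finrank k (LinearMap.range (Fintype.linearCombination k v)) := by linarith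
    exact le_of_mul_le_mul_left this hb0
  have h11 : a ≤ finrank k (LinearMap.range (Fintype.linearCombination k v)) := by exact_mod_cast h10
  rw [hdg, hrk, zero_add, ← hb] at h4
  have h12 : finrank k (LinearMap.range (Fintype.linearCombination k w)) = b := by exact_mod_cast h4
  refine ⟨⟨?_, ?_⟩, ⟨?_, LinearMap.range_eq_top.mp h3⟩⟩
  · rw [← LinearMap.ker_eq_bot, ← Submodule.finrank_eq_zero (R := k)]
    omega
  · rw [← LinearMap.range_eq_top]
    refine Submodule.eq_top_of_finrank_eq ?_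
    rw [h7]
    have := Submodule.finrank_le (LinearMap.range (Fintype.linearCombination k v))
    omega
  · rw [← LinearMap.ker_eq_bot, ← Submodule.finrank_eq_zero (R := k)]
    omega

end closed

end K656.Abs
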