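import Groth.Agent.PerfB.BCModIso
import Groth.Agent.VarietyA.FiniteSupport
import Groth.Agent.LoccohB.SectLin303

/-!
# Linear independence of homomorphisms and extension of the base field (helper656)

* `injective_pull`: for a cartesian square over `S' ⟶ S` affine with `Γ(S', ⊤)` projective over `Γ(S, ⊤)`, a family of
  homomorphisms into a quasi-coherent module which is linearly independent over `Γ(S, ⊤)` remains so after base change.
-/

set_option autoImplicit false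
universe u

open CategoryTheory CategoryTheory.Limits AlgebraicGeometry TopologicalSpace Opposite TensorProduct

namespace K656.BasBC

open Groth.Agent LoccohB.HHmap LoccohB.SectLin303 Groth.Agent.VarietyB.PullSec

theorem app_res {X : Scheme.{u}} {M N : X.Modules} (f : M ⟶ N) {U V : X.Opens} (h : V ≤ U) (s : Γ(M, U)) :
    N.presheaf.map (homOfLE h).op (f.app U s) = f.app V (M.presheaf.map (homOfLE h).op s) :=
  (congr($(f.mapPresheaf.naturality (homOfLE h).op) s)).symm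

theorem app_sum {X : Scheme.{u}} {M N : X.Modules} {ι : Type*} (t : Finset ι) (φ : ι → (M ⟶ N)) (V : X.Opens)
    (s : Γ(M, V)) : (∑ i ∈ t, φ i).app V s = ∑ i ∈ t, (φ i).app V s := by
  classical
  induction t using Finset.induction_on with
  | empty => rw [Finset.sum_empty, Finset.sum_empty]; rfl
  | insert a t ha ih => rw [Finset.sum_insert ha, Finset.sum_insert ha, ← ih]; rfl

theorem hom_ext_affine {X : Scheme.{u}} {M N : X.Modules} (f g : M ⟶ N)
    (h : ∀ U : X.Opens, IsAffineOpen U → ∀ s : Γ(M, U), f.app U s = g.app U s) : f = g := by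
  apply Scheme.Modules.hom_ext
  intro U
  ext s
  refine VarietyA.FiniteSupport.section_eq N _ _ fun x hx => ?_
  obtain ⟨_, ⟨V, hV, rfl⟩, hxV, hVU⟩ := X.isBasis_affineOpens.exists_subset_of_mem_open hx U.isOpen
  have hVU' : V ≤ U := hVU
  have h1 := Fdesc.QCohStalk.germ_map (M := N) hVU' x hxV (f.app U s)
  have h2 := Fdesc.QCohStalk.germ_map (M := N) hVU' x hxV (g.app U s)
  refine h1.symm.trans (Eq.trans ?_ h2)
  rw [app_res, app_res, h V hV]

/-- Pulled back homomorphisms on pulled back sections. -/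
theorem map_sec {X Y : Scheme.{u}} (g : Y ⟶ X) {M N : X.Modules} (φ : M ⟶ N) {U : X.Opens} {V : Y.Opens}
    (e : V ≤ g ⁻¹ᵁ U) (s : Γ(M, U)) :
    ((Scheme.Modules.pullback g).map φ).app V (sec g M e s) = sec g N e (φ.app U s) := by
  rw [sec_apply, sec_apply, ← app_res]
  congr 1
  have h1 := (Scheme.Modules.pullbackPushforwardAdjunction g).unit.naturality φ
  have h2 := congrArg (fun t => t.app U s) h1
  exact h2.symm

variable {Y S Y' S' : Scheme.{u}} [IsAffine S] [IsAffine S'] {p : Y ⟶ S} {g : Y' ⟶ Y} {p' : Y' ⟶ S'} {f : S' ⟶ S}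
  (H : IsPullback g p' p f)

include H in
theorem isPushout_of_isAffineOpen {W : Y.Opens} (hW : IsAffineOpen W) :
    IsPushout (p.appLE ⊤ W le_top) (f.appLE ⊤ ⊤ le_top) (g.appLE W (g ⁻¹ᵁ W) le_rfl)
      (p'.appLE ⊤ (g ⁻¹ᵁ W) le_top) := by
  have h1 := isIso_pushoutSection_of_isAffineOpen H (US := ⊤) (UT := ⊤) (UX := W)
    (UY := g ⁻¹ᵁ W) le_top le_top (by simp) (isAffineOpen_top _) (isAffineOpen_top _) hW
  exact (isIso_pushoutSection_iff H (US := ⊤) (UT := ⊤) (UX := W)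
    (UY := g ⁻¹ᵁ W) le_top le_top (by simp)).mp h1

include H in
/-- Sections of the pull-back over the preimage of an affine open. -/
theorem isBC {F : Y.Modules} (hF : Coh.IsQCoh F) {W : Y.Opens} (hW : IsAffineOpen W) :
    @PerfB.BCMod.IsBC Γ(S, ⊤) Γ(S', ⊤) _ _ (f.appLE ⊤ ⊤ le_top).hom Γ(F, W) Γ((Scheme.Modules.pullback g).obj F, g ⁻¹ᵁ W) _
      (Module.compHom _ (p.appLE ⊤ W le_top).hom) _ (Module.compHom _ (p'.appLE ⊤ (g ⁻¹ᵁ W) le_top).hom)
      (sec g F le_rfl) := by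
  have hg : IsAffineHom g := MorphismProperty.of_isPullback (P := @IsAffineHom) H.flip inferInstance
  have hV : IsAffineOpen (g ⁻¹ᵁ W) := hW.preimage g
  have hpo := isPushout_of_isAffineOpen H hW
  have hc : (g.appLE W (g ⁻¹ᵁ W) le_rfl).hom.comp (p.appLE ⊤ W le_top).hom =
      (p'.appLE ⊤ (g ⁻¹ᵁ W) le_top).hom.comp (f.appLE ⊤ ⊤ le_top).hom := congrArg CommRingCat.Hom.hom hpo.w
  refine PerfB.BCMod.IsBC.of_isPushout (p.appLE ⊤ W le_top).hom (f.appLE ⊤ ⊤ le_top).hom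
    (g.appLE W (g ⁻¹ᵁ W) le_rfl).hom (p'.appLE ⊤ (g ⁻¹ᵁ W) le_top).hom hc ?_ (PerfB.BCMod.isBC_sec g F le_rfl hF hW hV)
  letI i1 := (p.appLE ⊤ W le_top).hom.toAlgebra
  letI i2 := (f.appLE ⊤ ⊤ le_top).hom.toAlgebra
  letI i3 := (g.appLE W (g ⁻¹ᵁ W) le_rfl).hom.toAlgebra
  letI i4 := (p'.appLE ⊤ (g ⁻¹ᵁ W) le_top).hom.toAlgebra
  letI i5 := ((p'.appLE ⊤ (g ⁻¹ᵁ W) le_top).hom.comp (f.appLE ⊤ ⊤ le_top).hom).toAlgebra
  haveI : IsScalarTower Γ(S, ⊤) Γ(S', ⊤) Γ(Y', g ⁻¹ᵁ W) := IsScalarTower.of_algebraMap_eq (fun _ => rfl)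
  haveI : IsScalarTower Γ(S, ⊤) Γ(Y, W) Γ(Y', g ⁻¹ᵁ W) := IsScalarTower.of_algebraMap_eq (fun a => congr($hc.symm a))
  exact CommRingCat.isPushout_iff_isPushout.mp hpo.flip

/-- Functionals on base changes. -/
theorem smul_eq_zero_of_isBC {A A' : Type*} [CommRing A] [CommRing A'] {β : A →+* A'} {M N : Type*} [AddCommGroup M]
    [Module A M] [AddCommGroup N] [Module A' N] {v : M →+ N} (h : PerfB.BCMod.IsBC β v) {n : ℕ} (c : Fin n → A')
    (m : Fin n → M) (h0 : ∑ i, c i • v (m i) = 0)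
    (l : letI := β.toAlgebra; A' →ₗ[A] A) : ∑ i, l (c i) • m i = 0 := by
  letI := β.toAlgebra
  letI : Module A N := Module.compHom N β
  haveI : IsScalarTower A A' N := ⟨fun a b c => by rw [Algebra.smul_def, mul_smul]; rfl⟩
  obtain ⟨hv, hv'⟩ := h
  have h1 : ∑ i, c i ⊗ₜ[A] m i = 0 := by
    apply hv'.equiv.injective
    rw [_root_.map_zero, _root_.map_sum, ← h0]
    refine Finset.sum_congr rfl fun i _ => ?_
    exact IsBaseChange.equiv_tmul hv' (c i) (m i)
  have h2 := congrArg (fun t => TensorProduct.lid A M (l.rTensor M t)) h1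
  simpa only [_root_.map_sum, LinearMap.rTensor_tmul, TensorProduct.lid_tmul, _root_.map_zero] using h2

include H in
/-- **Linear independence is preserved by base change.** -/
theorem injective_pull (hsep : letI := (f.appLE ⊤ ⊤ le_top).hom.toAlgebra
      ∀ c : Γ(S', ⊤), (∀ l : Γ(S', ⊤) →ₗ[Γ(S, ⊤)] Γ(S, ⊤), l c = 0) → c = 0)
    {A F : Y.Modules} (hF : Coh.IsQCoh F) {n : ℕ} (e : Fin n → (A ⟶ F))
    (he : ∀ c : Fin n → Γ(S, ⊤), ∑ i, p.appTop (c i) • e i = 0 → c = 0) (c : Fin n → Γ(S', ⊤))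
    (hc : ∑ i, p'.appTop (c i) • (Scheme.Modules.pullback g).map (e i) = 0) : c = 0 := by
  letI := (f.appLE ⊤ ⊤ le_top).hom.toAlgebra
  funext i
  refine hsep _ fun l => ?_
  have key : (fun i => l (c i)) = 0 := by
    refine he _ (hom_ext_affine _ _ fun U hU s => ?_)
    have h1 := congrArg (fun t => t.app (g ⁻¹ᵁ U) (sec g A le_rfl s)) hc
    have h2 := @smul_eq_zero_of_isBC _ _ _ _ _ _ _ _ (Module.compHom _ (p.appLE ⊤ U le_top).hom) _
      (Module.compHom _ (p'.appLE ⊤ (g ⁻¹ᵁ U) le_top).hom) _ (isBC H hF hU) n c (fun i => (e i).app U s) ?_ l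
    · refine Eq.trans ?_ h2
      refine (app_sum _ _ _ _).trans (Finset.sum_congr rfl fun i _ => ?_)
      exact smul_app _ _ _ _
    · refine Eq.trans ?_ h1
      refine Eq.trans (Finset.sum_congr rfl fun i _ => ?_) (app_sum _ _ _ _).symm
      refine Eq.trans ?_ (smul_app _ _ _ _).symm
      exact congrArg (fun z => (p'.appLE ⊤ (g ⁻¹ᵁ U) le_top).hom (c i) • z) (map_sec g (e i) le_rfl s).symm
  exact congrFun key i

end K656.BasBC
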