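import Groth.Agent.TFOne.K975.Mod
import Groth.Agent.TFOne.K975.FlatR
import Groth.Agent.LoccohB.SectLin303
import Groth.Agent.Ega1.QcqsPush
import Groth.Agent.Ega3B.TensorAUnit
import Groth.Agent.Sga67.CohBasic

/-!
# Flat quotients over a discrete valuation ring (helper656)

* `isFlatOver_of_mono_smul`: a module on which the uniformizer acts injectively is flat;
* `exists_flatQuot`: a coherent module `E` on `Y / R` has a flat coherent quotient which is the same on the generic
  fibre;
* `mono_smul_tensor`: twists.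
-/

set_option autoImplicit false
universe u

open CategoryTheory CategoryTheory.Limits AlgebraicGeometry

namespace K656.Dvr

open Groth.Agent LoccohB.HHmap LoccohB.SectLin303 Groth.Agent.VarietyA.StalkCrit

theorem smulModΓ_eq {Y : Scheme.{u}} (F : Y.Modules) (g : Γ(Y, ⊤)) : Formal.smulModΓ F g = g • 𝟙 F := by
  rw [smul_eq, Category.comp_id]
  rfl

variable {R : Type u} [CommRing R] {Y : Scheme.{u}}

/-- The global function of an element of the base. -/
noncomputable def tg (f : Y ⟶ Spec (CommRingCat.of R)) (a : R) : Γ(Y, ⊤) := Coh.toGlobal f a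

/-- The uniformizer acts injectively on flat modules. -/
theorem isFlatOver_of_mono_smul [IsDomain R] [IsDiscreteValuationRing R] (f : Y ⟶ Spec (CommRingCat.of R)) {ϖ : R}
    (hϖ : Irreducible ϖ) (F : Y.Modules) (h : Mono (tg f ϖ • 𝟙 F)) : FlatMod.IsFlatOver f F := by
  rw [K975.FlatR.isFlatOver_iff f hϖ]
  intro x t ht
  rw [← smulModΓ_eq] at h
  apply CycB.StalkExact.stalkLin_injective (Formal.smulModΓ F (tg f ϖ)) x
  rw [K975.Mod.stalkLin_smulModΓ, map_zero]
  exact ht

/-- Twists. -/
theorem mono_smul_tensor (f : Y ⟶ Spec (CommRingCat.of R)) (a : R) (F L : Y.Modules) [(DCoh.tensorRightMod L).IsEquivalence]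
    (h : Mono (tg f a • 𝟙 F)) : Mono (tg f a • 𝟙 (CohB1.tensorMod F L)) := by
  let : Y.Over (Spec (CommRingCat.of R)) := ⟨f⟩
  have h1 : (DCoh.tensorRightMod L).map (Formal.smulMod R F a) = Formal.smulMod R (CohB1.tensorMod F L) a :=
    Ega3B.TensorAUnit.tensorRightMod_map_smul L F a
  have h2 : Formal.smulMod R F a = tg f a • 𝟙 F := smulModΓ_eq F _
  have h3 : Formal.smulMod R (CohB1.tensorMod F L) a = tg f a • 𝟙 (CohB1.tensorMod F L) := smulModΓ_eq _ _
  have h4 : Mono ((DCoh.tensorRightMod L).map (Formal.smulMod R F a)) := by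
    have : Mono (Formal.smulMod R F a) := h2 ▸ h
    infer_instance
  rw [← h3, ← h1]
  exact h4

/-- **The flat quotient.** -/
theorem exists_flatQuot [IsNoetherian Y] (g : Γ(Y, ⊤)) {Y' : Scheme.{u}} (j : Y' ⟶ Y) [QuasiCompact j] [QuasiSeparated j]
    (hg : IsUnit (j.appTop g)) {E : Y.Modules} (hE : Coh.IsCoh E) :
    ∃ (F : Y.Modules) (p : E ⟶ F), Epi p ∧ Coh.IsCoh F ∧ Mono (g • 𝟙 F) ∧
      IsIso ((Scheme.Modules.pullback j).map p) := by
  let adj := Scheme.Modules.pullbackPushforwardAdjunction j
  let N := (Scheme.Modules.pullback j).obj E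
  let η : E ⟶ (Scheme.Modules.pushforward j).obj N := adj.unit.app E
  have hN : Coh.IsQCoh N := (FormalA.PullbackQC.isCoh_pullback j E hE).1
  have hPN : Coh.IsQCoh ((Scheme.Modules.pushforward j).obj N) := Ega1.QcqsPush.isQCoh_pushforward j N hN
  have hK : Coh.IsCoh (kernel η) := Sga67.CohBasic.isCoh_kernel η hE hPN
  let F := Abelian.coimage η
  let p : E ⟶ F := Abelian.coimage.π η
  let i : F ⟶ (Scheme.Modules.pushforward j).obj N := Abelian.factorThruCoimage η
  have hpi : p ≫ i = η := Abelian.coimage.fac η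
  refine ⟨F, p, inferInstance, Sga67.CohBasic.isCoh_cokernel (kernel.ι η) hK.1 hE, ?_, ?_⟩
  · have h1 : IsIso (g • 𝟙 ((Scheme.Modules.pushforward j).obj N)) := by
      have h2 := inter_pushforward j g N
      rw [← h2]
      have h3 := (Inter.one (R := Γ(Y', ⊤)) (S := Γ(Y', ⊤)) (𝟭 Y'.Modules))
      obtain ⟨u, hu⟩ := hg
      have h4 : IsIso (j.appTop g • 𝟙 N) := by
        rw [← hu]
        exact ⟨(↑u⁻¹ : Γ(Y', ⊤)) • 𝟙 _, by rw [Linear.smul_comp, Linear.comp_smul, smul_smul, Units.mul_inv,
          one_smul, Category.id_comp], by rw [Linear.smul_comp, Linear.comp_smul, smul_smul, Units.inv_mul, one_smul,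
          Category.id_comp]⟩
      infer_instance
    have h2 : (g • 𝟙 F) ≫ i = i ≫ (g • 𝟙 ((Scheme.Modules.pushforward j).obj N)) := by
      rw [Linear.smul_comp, Linear.comp_smul, Category.id_comp, Category.comp_id]
    have h3 : Mono ((g • 𝟙 F) ≫ i) := by
      rw [h2]
      exact mono_comp _ _
    exact mono_of_mono (g • 𝟙 F) i
  · have h1 : (Scheme.Modules.pullback j).map p ≫ (adj.homEquiv F N).symm i = 𝟙 N := by
      rw [← Adjunction.homEquiv_naturality_left_symm, hpi, Equiv.symm_apply_eq, Adjunction.homEquiv_unit,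
        CategoryTheory.Functor.map_id]
      exact (Category.comp_id _).symm
    have h2 : Mono ((Scheme.Modules.pullback j).map p) := by
      have : Mono ((Scheme.Modules.pullback j).map p ≫ (adj.homEquiv F N).symm i) := by
        rw [h1]
        infer_instance
      exact mono_of_mono _ ((adj.homEquiv F N).symm i)
    have h3 : Epi ((Scheme.Modules.pullback j).map p) := by
      have : (Scheme.Modules.pullback j).IsLeftAdjoint := adj.isLeftAdjoint
      infer_instance
    exact isIso_of_mono_of_epi _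

end K656.Dvr
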