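import Groth.Agent.S1026
import Groth.Agent.AbVar.K524.Num
import Groth.Agent.FormalA.PullbackQC
import Groth.Agent.VarietyA.DegRank

/-!
# Euler characteristics of the geometric fibres of a flat family (helper656)
-/

set_option autoImplicit false
universe u

open CategoryTheory CategoryTheory.Limits AlgebraicGeometry

namespace K656.Euler

open Groth.Agent

theorem isPullback_fib {N S : Scheme.{u}} (f : N ⟶ S) (s : S) :
    IsPullback (f.fiberι s) (f.fiberToSpecResidueField s) f (S.fromSpecResidueField s) :=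
  IsPullback.of_hasPullback _ _

/-- The fibre and base change. -/
theorem isPullback_fiber {N S : Scheme.{u}} (f : N ⟶ S) (s : S) {K : Type u} [Field K]
    (φ : S.residueField s ⟶ CommRingCat.of K) {H : Scheme.{u}} {e : H ⟶ N} {h : H ⟶ Spec (CommRingCat.of K)}
    (hp : IsPullback e h f (Spec.map φ ≫ S.fromSpecResidueField s)) :
    ∃ e' : H ⟶ f.fiber s, e' ≫ f.fiberι s = e ∧ IsPullback e' h (f.fiberToSpecResidueField s) (Spec.map φ) := by
  have hw : e ≫ f = (h ≫ Spec.map φ) ≫ S.fromSpecResidueField s := by rw [hp.w, Category.assoc]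
  have h1 : (isPullback_fib f s).lift e (h ≫ Spec.map φ) hw ≫ f.fiberι s = e := (isPullback_fib f s).lift_fst _ _ _
  refine ⟨(isPullback_fib f s).lift e (h ≫ Spec.map φ) hw, h1, ?_⟩
  refine IsPullback.of_right (h₁₂ := f.fiberι s) (h₂₂ := S.fromSpecResidueField s) (v₁₃ := f) ?_
    ((isPullback_fib f s).lift_snd _ _ _) (isPullback_fib f s)
  rw [h1]
  exact hp

/-- The Euler characteristic of the pull-back to a field-valued point. -/
theorem euler_fib {N S : Scheme.{u}} (f : N ⟶ S) [QuasiCompact f] [QuasiSeparated f] {K : Type u} [Field K]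
    (t : Spec (CommRingCat.of K) ⟶ S) {H : Scheme.{u}} [H.Over (Spec (CommRingCat.of K))] {e : H ⟶ N}
    (hp : IsPullback e (H ↘ Spec (CommRingCat.of K)) f t) (F : N.Modules) (hF : Coh.IsQCoh F) :
    ∃ s : S, Curv2.euler K H ((Scheme.Modules.pullback e).obj F) = PerfAux.eulerChar f F s := by
  obtain ⟨⟨s, φ⟩, rfl⟩ : ∃ x, t = (Scheme.SpecToEquivOfField K S).symm x :=
    ⟨_, ((Scheme.SpecToEquivOfField K S).symm_apply_apply t).symm⟩
  refine ⟨s, ?_⟩
  obtain ⟨e', rfl, hp'⟩ := isPullback_fiber f s φ hp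
  let : (f.fiber s).Over (Spec (CommRingCat.of (S.residueField s))) := ⟨f.fiberToSpecResidueField s⟩
  let : Algebra (S.residueField s) K := φ.hom.toAlgebra
  have h1 : QuasiCompact (f.fiber s ↘ Spec (CommRingCat.of (S.residueField s))) :=
    MorphismProperty.of_isPullback (P := @QuasiCompact) (isPullback_fib f s) inferInstance
  have h2 : QuasiSeparated (f.fiber s ↘ Spec (CommRingCat.of (S.residueField s))) :=
    MorphismProperty.of_isPullback (P := @QuasiSeparated) (isPullback_fib f s) inferInstance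
  have h3 := K524.Num.euler_baseChange (S.residueField s) (f.fiber s) K H e' hp'
    ((Scheme.Modules.pullback (f.fiberι s)).obj F) (FormalA.PullbackQC.isQCoh_pullback (f.fiberι s) F hF)
  refine Eq.trans ?_ h3
  exact VarietyA.DegRank.euler_iso K ((Scheme.Modules.pullbackComp _ _).symm.app F)

/-- **The Euler characteristic is the same at all geometric points of a flat family over a connected base.** -/
theorem euler_eq {N S : Scheme.{u}} (f : N ⟶ S) [IsProper f] [LocallyOfFinitePresentation f] [PreconnectedSpace S]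
    (F : N.Modules) (hF : CohB1.IsFP F) (hfl : FlatMod.IsFlatOver f F) (hq : Coh.IsQCoh F)
    {K₁ : Type u} [Field K₁] (t₁ : Spec (CommRingCat.of K₁) ⟶ S) {H₁ : Scheme.{u}}
    [H₁.Over (Spec (CommRingCat.of K₁))] {e₁ : H₁ ⟶ N} (hp₁ : IsPullback e₁ (H₁ ↘ Spec (CommRingCat.of K₁)) f t₁)
    {K₂ : Type u} [Field K₂] (t₂ : Spec (CommRingCat.of K₂) ⟶ S) {H₂ : Scheme.{u}}
    [H₂.Over (Spec (CommRingCat.of K₂))] {e₂ : H₂ ⟶ N} (hp₂ : IsPullback e₂ (H₂ ↘ Spec (CommRingCat.of K₂)) f t₂) :
    Curv2.euler K₁ H₁ ((Scheme.Modules.pullback e₁).obj F) =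
      Curv2.euler K₂ H₂ ((Scheme.Modules.pullback e₂).obj F) := by
  obtain ⟨s₁, h₁⟩ := euler_fib f t₁ hp₁ F hq
  obtain ⟨s₂, h₂⟩ := euler_fib f t₂ hp₂ F hq
  rw [h₁, h₂]
  exact (S1026.result f F hF hfl).apply_eq_of_preconnectedSpace s₁ s₂

end K656.Euler
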