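import Groth.Agent.BunMod.K656.Fit
import Groth.Agent.BunMod.K656.Dvr
import Groth.Agent.BunMod.K656.Euler
import Groth.Agent.CohqA.FinSec
import Groth.Agent.CurvesC.PowSections

/-!
# The good locus is closed in the locus of King's condition (helper656)
-/

set_option autoImplicit false
set_option linter.unusedSectionVars false
universe u
open CategoryTheory CategoryTheory.Limits AlgebraicGeometry TopologicalSpace Opposite Module

namespace K656.Closed

open Groth.Agent Groth.Agent.VarietyA.DegRank K707.Base K707.Deg K707.Slope K707.Semi K707.TensL K708.Coho K708.SSH0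
open K708.PtTwist K703.Duality K656.Hom K656.Num K656.Abs K656.Fib K140.BM LoccohB.HHmap LoccohB.SectLin303
open K656.Setup K656.Good K311.KE K656.Fit

attribute [local instance] overF

theorem isFP_of_isCoh {Y : Scheme.{u}} [IsLocallyNoetherian Y] {F : Y.Modules} (h : Coh.IsCoh F) : CohB1.IsFP F := by
  refine CohqA.FinSec.isFP_of_finitePresentation h.1 fun x => ?_
  obtain ⟨U, hU, hx, -⟩ := exists_isAffineOpen_mem_and_subset (U := (⊤ : Y.Opens)) (x := x) trivial
  refine ⟨U, hU, hx, ?_⟩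
  have : IsNoetherianRing Γ(Y, U) := IsLocallyNoetherian.component_noetherian ⟨U, hU⟩
  have := CohqA.FinSec.finite_sections hU h.1 h.2
  exact Module.finitePresentation_of_finite _ _

section mat

variable {a b h : ℕ}

theorem kmap_kOf {A B : Type u} [CommRing A] [CommRing B] (φ : A →+* B) (α : Kr a b h A) :
    kmap (Spec.map (CommRingCat.ofHom φ)).appTop.hom (kmap (kOf A) α) = kmap ((kOf B).comp φ) α := by
  funext l
  ext i j
  exact (congr($(Scheme.ΓSpecIso_inv_naturality (CommRingCat.ofHom φ)).hom (α l i j))).symm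

theorem kmap_comp {A B C : Type*} [CommRing A] [CommRing B] [CommRing C] (ψ : B →+* C) (φ : A →+* B) (α : Kr a b h A) :
    kmap ψ (kmap φ α) = kmap (ψ.comp φ) α := rfl

theorem kmap_toF {A : Type u} [CommRing A] {Ω : Type u} [Field Ω] (φ : A →+* Ω) (α : Kr a b h A) :
    kmap (toF Ω) (kmap ((kOf Ω).comp φ) α) = kmap φ α := by
  funext l
  ext i j
  exact toF_kOf Ω _

end mat

variable {k : Type u} [Field k] {X : Scheme.{u}} [X.Over (Spec (CommRingCat.of k))]

theorem isCoh_KE (D : KDat X) (h₁ : PicF.IsInvertible D.L₁) (h₂ : PicF.IsInvertible D.L₂) (T : Over (B0 k))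
    [IsLocallyNoetherian (PicF.XT (st k X) T)] {a b : ℕ} (α : Kr a b D.h Γ(T.left, ⊤)) : Coh.IsCoh (KE D T α) := by
  have c1 : Coh.IsCoh (⨁ fun _ : Fin a => cst k T D.L₁) :=
    CurvesC.PowSections.isCoh_biproduct _ fun _ => coh_inv (Fdesc.LocGen.isInvertible_pullback _ h₁)
  have c2 : Coh.IsCoh (⨁ fun _ : Fin b => cst k T D.L₂) :=
    CurvesC.PowSections.isCoh_biproduct _ fun _ => coh_inv (Fdesc.LocGen.isInvertible_pullback _ h₂)
  have c3 : Coh.IsCoh (⨁ fun _ : Fin a × Fin D.h => cst k T D.L₂) :=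
    CurvesC.PowSections.isCoh_biproduct _ fun _ => coh_inv (Fdesc.LocGen.isInvertible_pullback _ h₂)
  exact Sga67.CohBasic.isCoh_cokernel (KE.rel D T α) c3.1 (Sga67.CohBasic.isCoh_biprod c1 c2)

variable [IsProper (X ↘ Spec (CommRingCat.of k))] [Smooth (X ↘ Spec (CommRingCat.of k))]
  [GeometricallyConnected (X ↘ Spec (CommRingCat.of k))]
  [IsAlgClosed k] (hdim : topologicalKrullDim X = 1) {S : KSet X} {g N M : ℤ} (B : Base k S g N M)
  {r : ℕ} (n : Nums g N M r) (hr : 0 < r) {a b : ℕ}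

include hdim in
/-- The Euler characteristics determine rank and degree. -/
theorem rank_deg {Ω : Type u} [Field Ω] [IsAlgClosed Ω] (s : Spec (CommRingCat.of Ω) ⟶ B0 k) {A : X.Modules}
    (hA : PicF.IsInvertible A) (hA0 : 0 < Curv2.deg k X A 1) {F : (XF k X s).Modules} (hF : Coh.IsCoh F) :
    letI := isIntegral_F (X := X) s
    letI := isProper_F (X := X) s
    (rk F = r ∧ dg Ω F = 0) ↔
      (Curv2.euler Ω (XF k X s) F = r * (1 - Curv2.genus k X) ∧
        Curv2.euler Ω (XF k X s) (CohB1.tensorMod F (cst k (tpt s) A)) =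
          r * Curv2.deg k X A 1 + r * (1 - Curv2.genus k X)) := by
  letI := isIntegral_F (X := X) s
  letI := isProper_F (X := X) s
  letI := isIntegral_X k X
  have C := crv_F s hdim
  have hA' := inv_cst (T := tpt s) hA
  have e1 := euler_eq_dg Ω F
  have e2 := euler_eq_dg Ω (CohB1.tensorMod F (cst k (tpt s) A))
  have e3 : Curv2.euler Ω (XF k X s) (Coh.structureModule (XF k X s)) = 1 - Curv2.genus k X := by
    rw [euler_structure Ω (XF k X s) (dim_F s hdim), genus_F]
  have e4 := dg_cst s hdim hA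
  rw [dg_of_rank k (rank_one_iff.mpr hA)] at e4
  rw [dg_tensor_inv C hA' hF, rk_tensor_inv hA' hF, e3, e4] at e2
  rw [e3] at e1
  rw [e1, e2]
  constructor
  · rintro ⟨h1, h2⟩
    rw [h1, h2]
    constructor <;> ring
  · rintro ⟨h1, h2⟩
    have h3 : (rk F : ℤ) * Curv2.deg k X A 1 = r * Curv2.deg k X A 1 := by linarith
    have h4 : (rk F : ℤ) = r := mul_right_cancel₀ hA0.ne' h3
    refine ⟨by exact_mod_cast h4, ?_⟩
    rw [h4] at h1
    linarith

section dvr

variable {R : Type u} [CommRing R] [IsDomain R] [IsDiscreteValuationRing R] [Algebra k R]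

/-- The base `Spec R`. -/
noncomputable abbrev sR (k : Type u) [Field k] (R : Type u) [CommRing R] [Algebra k R] : Spec (CommRingCat.of R) ⟶ B0 k :=
  Spec.map (CommRingCat.ofHom (algebraMap k R))

/-- Base change of `E_α` over `R`. -/
theorem exists_bcR (D : KDat X) (α : Kr a b D.h R) {Ω : Type u} [Field Ω] {s : Spec (CommRingCat.of Ω) ⟶ B0 k}
    (G : tpt s ⟶ tpt (sR k R)) {ψ : R →+* Ω} (hG : G.left = Spec.map (CommRingCat.ofHom ψ)) :
    ∃ e : KE D (tpt s) (kmap ((kOf Ω).comp ψ) α) ≅ pl k X G (KE D (tpt (sR k R)) (kmap (kOf R) α)),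
      (∀ l, KE.v D (tpt s) (kmap ((kOf Ω).comp ψ) α) l ≫ e.hom =
        (cstI G D.L₁).hom ≫ (Scheme.Modules.pullback (PicF.XTmap (st k X) G)).map
          (KE.v D (tpt (sR k R)) (kmap (kOf R) α) l)) ∧
      ∀ j, KE.w D (tpt s) (kmap ((kOf Ω).comp ψ) α) j ≫ e.hom =
        (cstI G D.L₂).hom ≫ (Scheme.Modules.pullback (PicF.XTmap (st k X) G)).map
          (KE.w D (tpt (sR k R)) (kmap (kOf R) α) j) := by
  have h := exists_bc D (kmap (kOf R) α) G
  have h2 : kmap G.left.appTop.hom (kmap (kOf R) α) = kmap ((kOf Ω).comp ψ) α := by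
    rw [hG]
    exact kmap_kOf ψ α
  rw [h2] at h
  exact h

include hdim B n hr in
/-- An epimorphism from `E_α` to a good module is an isomorphism. -/
theorem isIso_of_good {Ω : Type u} [Field Ω] [IsAlgClosed Ω] (s : Spec (CommRingCat.of Ω) ⟶ B0 k)
    (α : Kr a b S.h Γ((tpt s).left, ⊤)) {F : (XF k X s).Modules} (θ : KE S.toKDat (tpt s) α ⟶ F)
    (hF : SSB r s F) (hv : Bas (k := Ω) fun l => KE.v S.toKDat (tpt s) α l ≫ θ)
    (hw : Bas (k := Ω) fun j => KE.w S.toKDat (tpt s) α j ≫ θ) : GPt S.toKDat r s α := by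
  letI := isIntegral_F (X := X) s
  letI := isProper_F (X := X) s
  obtain ⟨h1, h2, h3, h4⟩ := (ssb_iff hdim s).mp hF
  have hrel := (rel_KE hdim B s α).comp θ
  obtain ⟨f, hf1, hf2⟩ := pres_lift (sett hdim B s) n h1 h2 h3 h4 hr hv hw hrel
    (KE.v S.toKDat (tpt s) α) (KE.w S.toKDat (tpt s) α) (rel_KE hdim B s α)
  have e1 : θ ≫ f = 𝟙 _ := K311.KE.hom_ext S.toKDat (fun l => by
    rw [← Category.assoc, Category.comp_id]
    exact hf1 l) (fun j => by
    rw [← Category.assoc, Category.comp_id]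
    exact hf2 j)
  have e2 : f ≫ θ = 𝟙 _ := by
    refine ext_of_bas s (gen₁ (sett hdim B s) n h1 h2 h3 h4 hr) hv fun l => ?_
    have h5 : (KE.v S.toKDat (tpt s) α l ≫ θ) ≫ f = KE.v S.toKDat (tpt s) α l := hf1 l
    exact (Category.assoc _ _ _).symm.trans ((congrArg (fun z => z ≫ θ) h5).trans (Category.comp_id _).symm)
  let e : KE S.toKDat (tpt s) α ≅ F := ⟨θ, f, e1, e2⟩
  refine ⟨hF.of_iso e.symm, ?_, ?_⟩
  · refine (homBasis_iso_iff _ (Iso.refl _) e fun l => ?_).mpr ((homBasis_iff _).mpr hv)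
    rw [Iso.refl_hom, Category.id_comp]
  · refine (homBasis_iso_iff _ (Iso.refl _) e fun l => ?_).mpr ((homBasis_iff _).mpr hw)
    rw [Iso.refl_hom, Category.id_comp]

end dvr

end K656.Closed
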