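import Groth.Agent.BunMod.K656.Closed

/-!
# The good locus is closed in the locus of King's condition: the theorem (helper656)
-/

set_option autoImplicit false
set_option linter.unusedSectionVars false
universe u
open CategoryTheory CategoryTheory.Limits AlgebraicGeometry TopologicalSpace Opposite Module

namespace K656.Closed

open Groth.Agent Groth.Agent.VarietyA.DegRank K707.Base K707.Deg K707.Slope K707.Semi K707.TensL K708.Coho K708.SSH0
open K708.PtTwist K703.Duality K656.Hom K656.Num K656.Abs K656.Fib K140.BM LoccohB.HHmap LoccohB.SectLin303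
open K656.Setup K656.Good K311.KE K656.Fit

attribute [local instance] overF

variable {k : Type u} [Field k] {X : Scheme.{u}} [X.Over (Spec (CommRingCat.of k))]

theorem XTmap_comp {T T' T'' : Over (B0 k)} (g' : T'' ⟶ T') (g : T' ⟶ T) :
    PicF.XTmap (st k X) (g' ≫ g) = PicF.XTmap (st k X) g' ≫ PicF.XTmap (st k X) g := by
  apply pullback.hom_ext
  · rw [Category.assoc]
    refine (XTmap_fst (X := X) (g' ≫ g)).trans ?_
    refine ((congrArg (PicF.XTmap (st k X) g' ≫ ·) (XTmap_fst (X := X) g)).trans (XTmap_fst (X := X) g')).symm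
  · rw [Category.assoc]
    refine (XTmap_proj (X := X) (g' ≫ g)).trans ?_
    refine ((congrArg (PicF.XTmap (st k X) g' ≫ ·) (XTmap_proj (X := X) g)).trans ?_).symm
    rw [← Category.assoc]
    refine (congrArg (· ≫ g.left) (XTmap_proj (X := X) g')).trans ?_
    rw [Category.assoc, Over.comp_left]

theorem isIso_pull_comp {Y Y' Y'' : Scheme.{u}} (a : Y'' ⟶ Y') (b : Y' ⟶ Y) {E F : Y.Modules} (q : E ⟶ F)
    (h : IsIso ((Scheme.Modules.pullback b).map q)) : IsIso ((Scheme.Modules.pullback (a ≫ b)).map q) := by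
  have h1 : IsIso ((Scheme.Modules.pullback b ⋙ Scheme.Modules.pullback a).map q) := by
    change IsIso ((Scheme.Modules.pullback a).map ((Scheme.Modules.pullback b).map q))
    infer_instance
  exact (NatIso.isIso_map_iff (Scheme.Modules.pullbackComp a b) q).mp h1

variable [IsProper (X ↘ Spec (CommRingCat.of k))] [Smooth (X ↘ Spec (CommRingCat.of k))]
  [GeometricallyConnected (X ↘ Spec (CommRingCat.of k))]
  [IsAlgClosed k] (hdim : topologicalKrullDim X = 1) {S : KSet X} {g N M : ℤ} (B : Base k S g N M)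
  {r : ℕ} (n : Nums g N M r) (hr : 0 < r) {a b : ℕ}

include hdim B in
theorem deg_N₁ : Curv2.deg k X S.N₁ 1 = N := by
  letI := isIntegral_X k X
  have C : Crv k X := Crv.of_smooth hdim
  obtain ⟨e⟩ := S.inv₁
  have h := dg_inv C S.invertible₁ B.invN₁ e
  rw [dg_of_rank k (rank_one_iff.mpr B.invN₁), dg_of_rank k (rank_one_iff.mpr S.invertible₁), B.dg₁] at h
  rw [h, neg_neg]

/-- Pull-back of a twist by a constant line bundle. -/
theorem nonempty_twist {T T' : Over (B0 k)} (G : T' ⟶ T) {A : X.Modules} (hA : PicF.IsInvertible A)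
    (F : (PicF.XT (st k X) T).Modules) :
    Nonempty ((Scheme.Modules.pullback (PicF.XTmap (st k X) G)).obj (CohB1.tensorMod F (cst k T A)) ≅
      CohB1.tensorMod (pl k X G F) (cst k T' A)) :=
  ⟨CohqB.PullTwist471.pullTensorIsoRight (PicF.XTmap (st k X) G)
    (CohqB.PullTwist471.hasBases_of_isInvertible (inv_cst hA)) F ≪≫
      Ega2.Tens.mapTIso (Iso.refl _) (cstI G A).symm⟩

variable {R : Type u} [CommRing R] [IsDomain R] [IsDiscreteValuationRing R] [Algebra k R]

include hdim B n hr in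
/-- The theorem at one geometric point of `Spec R`. -/
theorem closed_pt (hN : 0 < N) (ha : (a : ℤ) = r * (N + 1 - g)) (hb : (b : ℤ) = r * (M + 1 - g)) (α : Kr a b S.h R)
    (hgen : KGood S.toKDat r (tpt (k := k) (Spec.map (CommRingCat.ofHom (algebraMap k (FractionRing R)))))
      (kmap ((kOf (FractionRing R)).comp (algebraMap R (FractionRing R))) α))
    {Ω : Type u} [Field Ω] [IsAlgClosed Ω] {s : Spec (CommRingCat.of Ω) ⟶ B0 k} (G : tpt s ⟶ tpt (sR k R))
    {ψ : R →+* Ω} (hG : G.left = Spec.map (CommRingCat.ofHom ψ)) (hK : IsKing (kmap ψ α)) :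
    GPt S.toKDat r s (kmap ((kOf Ω).comp ψ) α) := by
  let TR : Over (B0 k) := tpt (sR k R)
  let Y := PicF.XT (st k X) TR
  let f : Y ⟶ Spec (CommRingCat.of R) := PicF.XTproj (st k X) TR
  have hpbR : IsPullback (pullback.fst (st k X) TR.hom) f (st k X) TR.hom := IsPullback.of_hasPullback _ _
  have p1 : IsProper f := MorphismProperty.of_isPullback (P := @IsProper) hpbR inferInstance
  have p2 : Smooth f := MorphismProperty.of_isPullback (P := @Smooth) hpbR inferInstance
  have p3 : IsLocallyNoetherian Y := LocallyOfFiniteType.isLocallyNoetherian f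
  have p4 : CompactSpace Y := QuasiCompact.compactSpace_of_compactSpace f
  have p5 : IsNoetherian Y := {}
  let E := KE S.toKDat TR (kmap (kOf R) α)
  have hE : Coh.IsCoh E := isCoh_KE S.toKDat S.invertible₁ S.invertible₂ TR _
  obtain ⟨ϖ, hϖ⟩ := IsDiscreteValuationRing.exists_irreducible R
  let K := FractionRing R
  let sK : Spec (CommRingCat.of K) ⟶ B0 k := Spec.map (CommRingCat.ofHom (algebraMap k K))
  let jK : tpt sK ⟶ TR := Over.homMk (Spec.map (CommRingCat.ofHom (algebraMap R K))) (by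
    change Spec.map _ ≫ Spec.map _ = Spec.map _
    rw [← Spec.map_comp, ← CommRingCat.ofHom_comp, ← IsScalarTower.algebraMap_eq])
  let j := PicF.XTmap (st k X) jK
  have hj : IsPullback j (PicF.XTproj (st k X) (tpt sK)) f jK.left := isPullback_XTmap jK
  have q1 : IsAffineHom jK.left := inferInstanceAs (IsAffineHom (Spec.map (CommRingCat.ofHom (algebraMap R K))))
  have q2 : IsAffineHom j := MorphismProperty.of_isPullback (P := @IsAffineHom) hj.flip q1
  have hg : IsUnit (j.appTop (Dvr.tg f ϖ)) := by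
    have h1 : j.appTop (fT k X TR (kOf R ϖ)) = fT k X (tpt sK) (jK.left.appTop (kOf R ϖ)) := fT_nat jK _
    have h2 : jK.left.appTop (kOf R ϖ) = kOf K (algebraMap R K ϖ) :=
      (congr($(Scheme.ΓSpecIso_inv_naturality (CommRingCat.ofHom (algebraMap R K))).hom ϖ)).symm
    have h3 : IsUnit (algebraMap R K ϖ) := by
      rw [isUnit_iff_ne_zero, Ne, IsFractionRing.to_map_eq_zero_iff]
      exact hϖ.ne_zero
    change IsUnit (j.appTop (fT k X TR (kOf R ϖ)))
    rw [h1, h2]
    exact (h3.map (kOf K)).map (fT k X (tpt sK))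
  obtain ⟨F, q, hq, hF, hmono, hiso⟩ := Dvr.exists_flatQuot (Dvr.tg f ϖ) j hg hE
  have hflat := Dvr.isFlatOver_of_mono_smul f hϖ F hmono
  have hAR : PicF.IsInvertible (cst k TR S.N₁) := inv_cst B.invN₁
  have q3 : (DCoh.tensorRightMod (cst k TR S.N₁)).IsEquivalence := isEquivalence hAR
  have hflat' := Dvr.isFlatOver_of_mono_smul f hϖ _ (Dvr.mono_smul_tensor f ϖ F (cst k TR S.N₁) hmono)
  have hF' : Coh.IsCoh (CohB1.tensorMod F (cst k TR S.N₁)) := coh_tensor (rank_one_iff.mpr hAR) hF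
  have hdN : 0 < Curv2.deg k X S.N₁ 1 := by rw [deg_N₁ hdim B]; exact hN
  -- the generic point
  let Ω₁ := AlgebraicClosure K
  let t₁ : Spec (CommRingCat.of Ω₁) ⟶ Spec (CommRingCat.of K) := Spec.map (CommRingCat.ofHom (algebraMap K Ω₁))
  let s₁ : Spec (CommRingCat.of Ω₁) ⟶ B0 k := t₁ ≫ sK
  let G₀ : tpt s₁ ⟶ tpt sK := Over.homMk t₁ rfl
  let G₁ : tpt s₁ ⟶ TR := G₀ ≫ jK
  let ψ₁ : R →+* Ω₁ := (algebraMap K Ω₁).comp (algebraMap R K)
  have hG₁ : G₁.left = Spec.map (CommRingCat.ofHom ψ₁) := by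
    change t₁ ≫ Spec.map (CommRingCat.ofHom (algebraMap R K)) = _
    rw [← Spec.map_comp]
    rfl
  obtain ⟨e₁, -, -⟩ := exists_bcR S.toKDat α G₁ hG₁
  have hgood₁ : GPt S.toKDat r s₁ (kmap ((kOf Ω₁).comp ψ₁) α) := by
    have h1 := ((kgood_iff S.toKDat r _).mp hgen).2 Ω₁ t₁
    have h2 : kmap t₁.appTop.hom (kmap ((kOf K).comp (algebraMap R K)) α) = kmap ((kOf Ω₁).comp ψ₁) α :=
      kmap_kOf (algebraMap K Ω₁) (kmap (algebraMap R K) α)
    rw [h2] at h1
    exact h1
  have i₁ : IsIso ((Scheme.Modules.pullback (PicF.XTmap (st k X) G₁)).map q) := by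
    rw [show PicF.XTmap (st k X) G₁ = PicF.XTmap (st k X) G₀ ≫ j from XTmap_comp G₀ jK]
    exact isIso_pull_comp _ _ q hiso
  have hF₁ : SSB r s₁ (pl k X G₁ F) :=
    (hgood₁.1.of_iso e₁).of_iso (asIso ((Scheme.Modules.pullback (PicF.XTmap (st k X) G₁)).map q))
  have hc₁ : Coh.IsCoh (pl k X G₁ F) := FormalA.PullbackQC.isCoh_pullback _ F hF
  have hc : Coh.IsCoh (pl k X G F) := FormalA.PullbackQC.isCoh_pullback _ F hF
  obtain ⟨-, r1, r2, -⟩ := (ssb_iff hdim s₁).mp hF₁
  obtain ⟨u1, u2⟩ := (rank_deg hdim s₁ B.invN₁ hdN hc₁).mp ⟨r1, r2⟩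
  obtain ⟨tw₁⟩ := nonempty_twist G₁ B.invN₁ F
  obtain ⟨tw⟩ := nonempty_twist G B.invN₁ F
  have v1 := Euler.euler_eq f F (isFP_of_isCoh hF) hflat hF.1 G.left (isPullback_XTmap (X := X) G) G₁.left
    (isPullback_XTmap (X := X) G₁)
  have v2 := Euler.euler_eq f _ (isFP_of_isCoh hF') hflat' hF'.1 G.left (isPullback_XTmap (X := X) G) G₁.left
    (isPullback_XTmap (X := X) G₁)
  rw [euler_iso Ω tw, euler_iso Ω₁ tw₁] at v2
  obtain ⟨w1, w2⟩ := (rank_deg hdim s B.invN₁ hdN hc).mpr ⟨v1.trans u1, v2.trans u2⟩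
  -- the comparison map
  obtain ⟨e, -, -⟩ := exists_bcR S.toKDat α G hG
  letI := isIntegral_F (X := X) s
  letI := isProper_F (X := X) s
  let θ : KE S.toKDat (tpt s) (kmap ((kOf Ω).comp ψ) α) ⟶ pl k X G F :=
    e.hom ≫ (Scheme.Modules.pullback (PicF.XTmap (st k X) G)).map q
  have hθ : Epi θ := by
    have h1 : Epi ((Scheme.Modules.pullback (PicF.XTmap (st k X) G)).map q) := by
      have : (Scheme.Modules.pullback (PicF.XTmap (st k X) G)).IsLeftAdjoint :=
        (Scheme.Modules.pullbackPushforwardAdjunction (PicF.XTmap (st k X) G)).isLeftAdjoint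
      infer_instance
    exact epi_comp _ _
  have hK' : IsKing (kmap (toF Ω) (kmap ((kOf Ω).comp ψ) α)) := by
    rw [kmap_toF]
    exact hK
  obtain ⟨c1, c2, c3, c4⟩ := closed_abs (sett hdim B s) n hr ha hb hK' hc w1 w2 ((rel_KE hdim B s _).comp θ)
    (fun Z t h1 h2 => by
      rw [← cancel_epi θ, comp_zero]
      refine K311.KE.hom_ext S.toKDat (fun l => ?_) (fun j => ?_)
      · rw [← Category.assoc, comp_zero]
        exact h1 l
      · rw [← Category.assoc, comp_zero]
        exact h2 j)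
  exact isIso_of_good hdim B n hr s _ θ ((ssb_iff hdim s).mpr ⟨c1, w1, w2, c2⟩) c3 c4

include hdim B n hr in
/-- **The good locus is closed in the locus of King's condition.** -/
theorem closed (hN : 0 < N) (ha : (a : ℤ) = r * (N + 1 - g)) (hb : (b : ℤ) = r * (M + 1 - g))
    (hbij : Function.Bijective (algebraMap k (IsLocalRing.ResidueField R))) (α : Kr a b S.h R)
    (hgen : KGood S.toKDat r (tpt (k := k) (Spec.map (CommRingCat.ofHom (algebraMap k (FractionRing R)))))
      (kmap ((kOf (FractionRing R)).comp (algebraMap R (FractionRing R))) α))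
    (hK : IsKing (kmap (IsLocalRing.residue R) α)) :
    KGood S.toKDat r (tpt (k := k) (Spec.map (CommRingCat.ofHom (algebraMap k (IsLocalRing.ResidueField R)))))
      (kmap ((kOf (IsLocalRing.ResidueField R)).comp (IsLocalRing.residue R)) α) := by
  let κ := IsLocalRing.ResidueField R
  have hcl : IsAlgClosed κ := IsAlgClosed.of_ringEquiv k κ (RingEquiv.ofBijective (algebraMap k κ) hbij)
  let sκ : Spec (CommRingCat.of κ) ⟶ B0 k := Spec.map (CommRingCat.ofHom (algebraMap k κ))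
  let Gκ : tpt sκ ⟶ tpt (sR k R) := Over.homMk (Spec.map (CommRingCat.ofHom (IsLocalRing.residue R))) (by
    change Spec.map _ ≫ Spec.map _ = Spec.map _
    rw [← Spec.map_comp, ← CommRingCat.ofHom_comp]
    rfl)
  refine (kgood_iff S.toKDat r _).mpr ⟨(closed_pt hdim B n hr hN ha hb α hgen Gκ (ψ := IsLocalRing.residue R) rfl
    hK).1.1, fun Ω _ _ t => ?_⟩
  obtain ⟨φ, rfl⟩ : ∃ φ, t = Spec.map φ := ⟨_, (Spec.map_preimage t).symm⟩
  let G : tpt (Spec.map φ ≫ sκ) ⟶ tpt (sR k R) := Over.homMk (U := tpt (Spec.map φ ≫ sκ)) (V := tpt sκ) (Spec.map φ) rfl ≫ Gκ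
  let ψ : R →+* Ω := φ.hom.comp (IsLocalRing.residue R)
  have hG : G.left = Spec.map (CommRingCat.ofHom ψ) := by
    change Spec.map φ ≫ Spec.map (CommRingCat.ofHom (IsLocalRing.residue R)) = _
    rw [← Spec.map_comp]
    rfl
  let : Algebra κ Ω := φ.hom.toAlgebra
  have hK' : IsKing (kmap ψ α) := KingExt.isKing_ext (κ := κ) (Ω := Ω) hK
  have h1 := closed_pt hdim B n hr hN ha hb α hgen G hG hK'
  have h2 : kmap (Spec.map φ).appTop.hom (kmap ((kOf κ).comp (IsLocalRing.residue R)) α) = kmap ((kOf Ω).comp ψ) α :=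
    kmap_kOf φ.hom (kmap (IsLocalRing.residue R) α)
  rw [show kmap (Spec.map φ).appTop.hom (kmap ((kOf (IsLocalRing.ResidueField R)).comp (IsLocalRing.residue R)) α) =
    kmap ((kOf Ω).comp ψ) α from h2]
  exact h1

end K656.Closed
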