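import Groth.Agent.BunMod.K656.Abs2
import Groth.Agent.BunMod.K656.BasBC
import Groth.Agent.BunMod.K311.KE
import Groth.Agent.BunMod.K311.SB
import Groth.Agent.EssDim.K995.GenusField
import Groth.Agent.Ega3B.PullTensor
import Groth.Agent.CohqB.PullTwist471
import Groth.Agent.AbVar.K524.Num

/-!
# The geometric fibres of a smooth proper curve over a field (helper656)

`XF s = X ×_k Spec Ω` for `s : Spec Ω ⟶ Spec k`; it is again an integral smooth proper curve of the same genus, and
degrees of invertible modules do not change.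
-/

set_option autoImplicit false
set_option linter.unusedSectionVars false
universe u
open CategoryTheory CategoryTheory.Limits AlgebraicGeometry TopologicalSpace Opposite Module

namespace K656.Fib

open Groth.Agent Groth.Agent.VarietyA.DegRank K707.Base K707.Deg K707.Slope K707.Semi K707.TensL K708.Coho K708.SSH0
open K708.PtTwist K703.Duality K656.Hom K656.Num K656.Abs K140.BM

section fibre

variable {k : Type u} [Field k] {X : Scheme.{u}} [X.Over (Spec (CommRingCat.of k))]
  {Ω : Type u} [Field Ω] (s : Spec (CommRingCat.of Ω) ⟶ B0 k)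

/-- The fibre over `Ω`. -/
noncomputable abbrev XF (k : Type u) [Field k] (X : Scheme.{u}) [X.Over (Spec (CommRingCat.of k))]
    {Ω : Type u} [Field Ω] (s : Spec (CommRingCat.of Ω) ⟶ B0 k) : Scheme.{u} := PicF.XT (st k X) (tpt s)

/-- The structure morphism of the fibre. -/
@[reducible] noncomputable def overF (k : Type u) [Field k] (X : Scheme.{u}) [X.Over (Spec (CommRingCat.of k))]
    {Ω : Type u} [Field Ω] (s : Spec (CommRingCat.of Ω) ⟶ B0 k) : (XF k X s).Over (Spec (CommRingCat.of Ω)) :=
  ⟨PicF.XTproj (st k X) (tpt s)⟩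

attribute [local instance] overF

theorem isPullback_fst : IsPullback (pullback.fst (st k X) (tpt s).hom) (XF k X s ↘ Spec (CommRingCat.of Ω)) (st k X) s :=
  IsPullback.of_hasPullback _ _

variable [IsProper (X ↘ Spec (CommRingCat.of k))] [Smooth (X ↘ Spec (CommRingCat.of k))]
  [GeometricallyConnected (X ↘ Spec (CommRingCat.of k))]

theorem isProper_F : IsProper (XF k X s ↘ Spec (CommRingCat.of Ω)) :=
  MorphismProperty.of_isPullback (P := @IsProper) (isPullback_fst s) inferInstance

theorem smooth_F : Smooth (XF k X s ↘ Spec (CommRingCat.of Ω)) :=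
  MorphismProperty.of_isPullback (P := @Smooth) (isPullback_fst s) inferInstance

theorem geomConn_F : GeometricallyConnected (XF k X s ↘ Spec (CommRingCat.of Ω)) :=
  MorphismProperty.of_isPullback (P := @GeometricallyConnected) (isPullback_fst s) inferInstance

theorem isIntegral_F : IsIntegral (XF k X s) :=
  have := smooth_F (X := X) s
  have := geomConn_F (X := X) s
  K705.Setup.isIntegral_of_geomConn Ω (XF k X s)

theorem isIntegral_X (k : Type u) [Field k] (X : Scheme.{u}) [X.Over (Spec (CommRingCat.of k))]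
    [Smooth (X ↘ Spec (CommRingCat.of k))] [GeometricallyConnected (X ↘ Spec (CommRingCat.of k))] : IsIntegral X :=
  K705.Setup.isIntegral_of_geomConn k X

variable (hdim : topologicalKrullDim X = 1)

include hdim in
theorem dim_F : topologicalKrullDim (XF k X s) = 1 :=
  (K995.GenusField.dim_eq_of_isPullback (isPullback_fst (X := X) s)).trans hdim

include hdim in
theorem crv_F : Crv Ω (XF k X s) :=
  have := isProper_F (X := X) s
  have := smooth_F (X := X) s
  have := isIntegral_F (X := X) s
  Crv.of_smooth (dim_F s hdim)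

theorem genus_F : Curv2.genus Ω (XF k X s) = Curv2.genus k X := by
  obtain ⟨φ, rfl⟩ : ∃ φ, s = Spec.map φ := ⟨_, (Spec.map_preimage s).symm⟩
  exact K995.GenusField.genus_eq_of_isPullback k X (X ↘ Spec (CommRingCat.of k)) Ω φ.hom _ _ _
    (isPullback_fst (X := X) (Spec.map φ)) 1

/-- `χ(O) = 1 - g`. -/
theorem euler_structure (k : Type u) [Field k] [IsAlgClosed k] (X : Scheme.{u}) [X.Over (Spec (CommRingCat.of k))]
    [IsIntegral X] [IsProper (X ↘ Spec (CommRingCat.of k))] (hdim : topologicalKrullDim X = 1) :
    Curv2.euler k X (Coh.structureModule X) = 1 - Curv2.genus k X := by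
  rw [K708.Coho.euler_eq k hdim.le, VarietyA.CurveFin.finrank_h0_structure k X, Nat.cast_one]
  rfl

/-- Euler characteristics of constant families. -/
theorem euler_cst {L : X.Modules} (hL : Coh.IsQCoh L) :
    Curv2.euler Ω (XF k X s) (cst k (tpt s) L) = Curv2.euler k X L := by
  obtain ⟨φ, rfl⟩ : ∃ φ, s = Spec.map φ := ⟨_, (Spec.map_preimage s).symm⟩
  let : Algebra k Ω := φ.hom.toAlgebra
  exact K524.Num.euler_baseChange k X Ω (XF k X (Spec.map φ)) (pullback.fst (st k X) (tpt (Spec.map φ)).hom)
    (isPullback_fst (X := X) (Spec.map φ)) L hL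

theorem inv_cst {T : Over (B0 k)} {L : X.Modules} (hL : PicF.IsInvertible L) : PicF.IsInvertible (cst k T L) :=
  Fdesc.LocGen.isInvertible_pullback _ hL

include hdim in
theorem dg_cst [IsAlgClosed k] [IsAlgClosed Ω] {L : X.Modules} (hL : PicF.IsInvertible L) :
    letI := isIntegral_F (X := X) s
    letI := isIntegral_X k X
    dg Ω (cst k (tpt s) L) = dg k L := by
  letI := isIntegral_F (X := X) s
  letI := isIntegral_X k X
  have := isProper_F (X := X) s
  rw [dg, dg, euler_cst s (coh_inv hL).1, euler_structure k X hdim, euler_structure Ω (XF k X s) (dim_F s hdim),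
    genus_F, rk_of_rank (rank_one_iff.mpr hL), rk_of_rank (rank_one_iff.mpr (inv_cst hL))]

end fibre

section smul

variable {κ : Type u} [Field κ] {Y : Scheme.{u}} [Y.Over (Spec (CommRingCat.of κ))]

open LoccohB.HHmap LoccohB.SectLin303

/-- The two scalar actions. -/
theorem smul_bridge {A F : Y.Modules} (c : κ) (φ : A ⟶ F) :
    c • φ = (Y ↘ Spec (CommRingCat.of κ)).appTop ((Scheme.ΓSpecIso (CommRingCat.of κ)).inv c) • φ := rfl

theorem smul_bridge' {A F : Y.Modules} (c : κ) (φ : A ⟶ F) :
    c • φ = smulHom A ((Y ↘ Spec (CommRingCat.of κ)).appTop ((Scheme.ΓSpecIso (CommRingCat.of κ)).inv c)) ≫ φ := rfl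

theorem homBasis_iff {A F : Y.Modules} {n : ℕ} (e : Fin n → (A ⟶ F)) :
    HomBasis (Y ↘ Spec (CommRingCat.of κ)) e ↔ Bas (k := κ) e := by
  rw [Bas, Function.bijective_iff_existsUnique]
  refine forall_congr' fun x => existsUnique_congr fun c => ?_
  rw [Fintype.linearCombination_apply]
  exact eq_comm

end smul

end K656.Fib
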