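import Groth.Agent.BunMod.K311.KE
import Groth.Agent.BunMod.K311.SB
import Groth.Agent.VBCurve.K707.Slope
import Groth.Agent.VarietyA.DegRank
import Groth.Agent.Vancyc.H878.Triv

/-!
# Good Kronecker modules at geometric points (helper656)

* `SSB.of_iso`;
* `GPt D r s α`: `E_α` is semistable on the fibre and the tautological maps are bases;
* `kgood_iff`: `KGood` in terms of `GPt`.
-/

set_option autoImplicit false
universe u
open CategoryTheory CategoryTheory.Limits AlgebraicGeometry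

namespace K656.Good

open Groth.Agent K140.BM K311.KE

variable {k : Type u} [Field k] {X : Scheme.{u}} [X.Over (Spec (CommRingCat.of k))]

theorem _root_.K140.BM.SSB.of_iso {r : ℕ} {Ω : Type u} [Field Ω] {s : Spec (CommRingCat.of Ω) ⟶ B0 k}
    {E E' : (PicF.XT (st k X) (tpt s)).Modules} (e : E ≅ E') (h : SSB r s E) : SSB r s E' := by
  letI : (PicF.XT (st k X) (Over.mk s)).Over (Spec (CommRingCat.of Ω)) := ⟨PicF.XTproj (st k X) (Over.mk s)⟩
  obtain ⟨h1, h2, h3⟩ := h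
  have hd : Curv2.deg Ω (PicF.XT (st k X) (Over.mk s)) E' r = Curv2.deg Ω (PicF.XT (st k X) (Over.mk s)) E r := by
    rw [Curv2.deg, Curv2.deg, VarietyA.DegRank.euler_iso Ω e]
  refine ⟨K707.Slope.rank_iso e h1, hd.trans h2, fun F r' i hi hr' hF => ?_⟩
  have h4 := h3 F r' (i ≫ e.inv) (mono_comp _ _) hr' hF
  rw [hd]
  exact h4

/-- Goodness at one geometric point. -/
def GPt (D : KDat X) (r : ℕ) {a b : ℕ} {Ω : Type u} [Field Ω] (s : Spec (CommRingCat.of Ω) ⟶ B0 k)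
    (α : Kr a b D.h Γ((tpt s).left, ⊤)) : Prop :=
  SSB r s (KE D (tpt s) α) ∧ HomBasis (PicF.XTproj (st k X) (tpt s)) (KE.v D (tpt s) α) ∧
    HomBasis (PicF.XTproj (st k X) (tpt s)) (KE.w D (tpt s) α)

theorem homBasis_iso_iff {κ : Type u} [Field κ] {Y : Scheme.{u}} (q : Y ⟶ Spec (CommRingCat.of κ)) {n : ℕ}
    {A F A' F' : Y.Modules} (i : A' ≅ A) (j : F ≅ F') {e : Fin n → (A ⟶ F)} {e' : Fin n → (A' ⟶ F')}
    (h : ∀ l, e' l = i.hom ≫ e l ≫ j.hom) : HomBasis q e ↔ HomBasis q e' := by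
  rw [K311.Bas.homBasis_iff, K311.Bas.homBasis_iff, K311.Bas.SB.iso_iff q i j]
  have : e' = fun l => i.hom ≫ e l ≫ j.hom := funext h
  rw [this]

/-- `KGood` in terms of geometric points. -/
theorem kgood_iff (D : KDat X) (r : ℕ) {a b : ℕ} {T : Over (B0 k)} (α : Kr a b D.h Γ(T.left, ⊤)) :
    KGood D r T α ↔ FlatMod.IsFinLocFreeOfRank r (KE D T α) ∧
      ∀ (Ω : Type u) [Field Ω] [IsAlgClosed Ω] (t : Spec (CommRingCat.of Ω) ⟶ T.left),
        GPt D r (t ≫ T.hom) (kmap t.appTop.hom α) := by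
  have key : ∀ (Ω : Type u) [Field Ω] [IsAlgClosed Ω] (t : Spec (CommRingCat.of Ω) ⟶ T.left),
      GPt D r (t ≫ T.hom) (kmap t.appTop.hom α) ↔
      SSB r (t ≫ T.hom) (pl k X (Over.homMk t rfl : Over.mk (t ≫ T.hom) ⟶ T) (KE D T α)) ∧
      HomBasis (PicF.XTproj (st k X) (Over.mk (t ≫ T.hom)))
        (fun l : Fin a => (Scheme.Modules.pullback (PicF.XTmap (st k X)
          (Over.homMk t rfl : Over.mk (t ≫ T.hom) ⟶ T))).map (KE.v D T α l)) ∧
      HomBasis (PicF.XTproj (st k X) (Over.mk (t ≫ T.hom)))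
        (fun j : Fin b => (Scheme.Modules.pullback (PicF.XTmap (st k X)
          (Over.homMk t rfl : Over.mk (t ≫ T.hom) ⟶ T))).map (KE.w D T α j)) := by
    intro Ω _ _ t
    let g : Over.mk (t ≫ T.hom) ⟶ T := Over.homMk t rfl
    obtain ⟨e, hv, hw⟩ := exists_bc D α g
    refine and_congr ⟨fun h => h.of_iso e, fun h => h.of_iso e.symm⟩ (and_congr ?_ ?_)
    · refine (homBasis_iso_iff _ (cstI g D.L₁) e.symm fun l => ?_).symm
      exact ((Iso.eq_comp_inv e).mpr (hv l)).trans (Category.assoc _ _ _)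
    · refine (homBasis_iso_iff _ (cstI g D.L₂) e.symm fun l => ?_).symm
      exact ((Iso.eq_comp_inv e).mpr (hw l)).trans (Category.assoc _ _ _)
  constructor
  · rintro ⟨⟨h1, h2, h3⟩, h4⟩
    refine ⟨h1, fun Ω _ _ t => (key Ω t).mpr ⟨⟨?_, h2 Ω t, h3 Ω t⟩, h4 Ω t⟩⟩
    exact Vancyc.H878.Triv.isFinLocFreeOfRank_pullback _ h1
  · rintro ⟨h1, h2⟩
    exact ⟨⟨h1, fun Ω _ _ t => ((key Ω t).mp (h2 Ω t)).1.2.1, fun Ω _ _ t => ((key Ω t).mp (h2 Ω t)).1.2.2⟩,
      fun Ω _ _ t => ((key Ω t).mp (h2 Ω t)).2⟩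

end K656.Good
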