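import Mathlib.RingTheory.Jacobson.Ring
import Mathlib.FieldTheory.IsAlgClosed.Basic
import Mathlib.LinearAlgebra.Matrix.ToLin
import Mathlib.RingTheory.FiniteType
import Groth.Agent.BunMod.K140.Defs

/-!
# King's condition is invariant under extension of an algebraically closed field (helper656)
-/

set_option autoImplicit false
universe u

namespace K656.KingExt

open K140.BM Module

theorem exists_point (κ A : Type*) [Field κ] [IsAlgClosed κ] [CommRing A] [Nontrivial A] [Algebra κ A]
    [Algebra.FiniteType κ A] : Nonempty (A →ₐ[κ] κ) := by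
  obtain ⟨m, hm⟩ := Ideal.exists_maximal A
  let _ : Field (A ⧸ m) := Ideal.Quotient.field m
  have : Module.Finite κ (A ⧸ m) := finite_of_finite_type_of_isJacobsonRing κ (A ⧸ m)
  let e : κ ≃ₐ[κ] (A ⧸ m) := AlgEquiv.ofBijective (Algebra.ofId κ (A ⧸ m))
    IsAlgClosed.algebraMap_bijective_of_isIntegral
  exact ⟨e.symm.toAlgHom.comp (Ideal.Quotient.mkₐ κ m)⟩

/-- `b d ≤ a e` if there are a matrix with a left inverse and a matrix with `e` columns through which all `α_l X` factor. -/
theorem king_matrix {κ : Type*} [Field κ] {a b h d e : ℕ} {α : Kr a b h κ} (hK : IsKing α)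
    (X : Matrix (Fin a) (Fin d) κ) (Y : Matrix (Fin d) (Fin a) κ) (U : Matrix (Fin b) (Fin e) κ)
    (Z : Fin h → Matrix (Fin e) (Fin d) κ) (hYX : Y * X = 1) (hZ : ∀ l, α l * X = U * Z l) : b * d ≤ a * e := by
  have h1 := hK (LinearMap.range X.mulVecLin)
  have h2 : finrank κ (LinearMap.range X.mulVecLin) = d := by
    rw [LinearMap.finrank_range_of_inj, finrank_fintype_fun_eq_card, Fintype.card_fin]
    intro x y hxy
    have h3 := congrArg Y.mulVec (show X.mulVec x = X.mulVec y from hxy)
    rwa [Matrix.mulVec_mulVec, Matrix.mulVec_mulVec, hYX, Matrix.one_mulVec, Matrix.one_mulVec] at h3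
  have h3 : (⨆ l, (LinearMap.range X.mulVecLin).map (α l).mulVecLin : Submodule κ (Fin b → κ)) ≤
      LinearMap.range U.mulVecLin := by
    refine iSup_le fun l => ?_
    rintro _ ⟨_, ⟨x, rfl⟩, rfl⟩
    refine ⟨(Z l).mulVec x, ?_⟩
    simp only [Matrix.mulVecLin_apply, Matrix.mulVec_mulVec, hZ]
  have h4 := (Submodule.finrank_mono h3).trans (LinearMap.finrank_range_le U.mulVecLin)
  rw [finrank_fintype_fun_eq_card, Fintype.card_fin] at h4
  rw [h2] at h1
  exact h1.trans (Nat.mul_le_mul_left a h4)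

/-- **King's condition passes to extension fields.** -/
theorem isKing_ext {κ Ω : Type*} [Field κ] [IsAlgClosed κ] [Field Ω] [Algebra κ Ω] {a b h : ℕ} {α : Kr a b h κ}
    (hK : IsKing α) : IsKing (kmap (algebraMap κ Ω) α) := by
  intro V'
  set W' : Submodule Ω (Fin b → Ω) := ⨆ l, V'.map (kmap (algebraMap κ Ω) α l).mulVecLin with hW'
  let d := finrank Ω V'
  let e := finrank Ω W'
  let β : Basis (Fin d) Ω V' := Module.finBasis Ω V'
  let γ : Basis (Fin e) Ω W' := Module.finBasis Ω W'
  change b * d ≤ a * e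
  -- the matrices over `Ω`
  let X : Matrix (Fin a) (Fin d) Ω := Matrix.of fun i m => (β m : Fin a → Ω) i
  let U : Matrix (Fin b) (Fin e) Ω := Matrix.of fun j m => (γ m : Fin b → Ω) j
  have hXinj : Function.Injective X.mulVecLin := by
    have h1 : LinearIndependent Ω (fun m => (β m : Fin a → Ω)) :=
      β.linearIndependent.map' V'.subtype (Submodule.ker_subtype V')
    have h2 := Matrix.mulVec_injective_iff (M := X)
    exact h2.mpr h1
  obtain ⟨y, hy⟩ := X.mulVecLin.exists_leftInverse_of_injective (LinearMap.ker_eq_bot.mpr hXinj)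
  let Y : Matrix (Fin d) (Fin a) Ω := LinearMap.toMatrix' y
  have hYX : Y * X = 1 := by
    have h1 : LinearMap.toMatrix' (y ∘ₗ X.mulVecLin) = Y * X := by
      rw [LinearMap.toMatrix'_comp]
      congr 1
      rw [← Matrix.toLin'_apply', LinearMap.toMatrix'_toLin']
    rw [← h1, hy, LinearMap.toMatrix'_id]
  have hmem : ∀ (l : Fin h) (m : Fin d), (kmap (algebraMap κ Ω) α l).mulVecLin (β m : Fin a → Ω) ∈ W' := fun l m =>
    Submodule.mem_iSup_of_mem l (Submodule.mem_map_of_mem (β m).2)
  let Z : Fin h → Matrix (Fin e) (Fin d) Ω := fun l => Matrix.of fun i m =>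
    γ.repr ⟨(kmap (algebraMap κ Ω) α l).mulVecLin (β m : Fin a → Ω), hmem l m⟩ i
  have hZ : ∀ l, kmap (algebraMap κ Ω) α l * X = U * Z l := by
    intro l
    ext j m
    have h1 := congrArg Subtype.val
      (γ.sum_repr ⟨(kmap (algebraMap κ Ω) α l).mulVecLin (β m : Fin a → Ω), hmem l m⟩)
    have h2 := congrFun h1 j
    simp only [AddSubmonoidClass.coe_finsetSum, SetLike.val_smul, Finset.sum_apply, Pi.smul_apply,
      smul_eq_mul] at h2
    rw [Matrix.mul_apply, Matrix.mul_apply]
    have h3 : (kmap (algebraMap κ Ω) α l).mulVecLin (β m : Fin a → Ω) j =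
      ∑ i, kmap (algebraMap κ Ω) α l j i * X i m := rfl
    rw [← h3, ← h2]
    refine Finset.sum_congr rfl fun i _ => ?_
    rw [mul_comm]
    rfl
  -- the finitely generated algebra
  let el : ((Fin a × Fin d) ⊕ (Fin d × Fin a)) ⊕ ((Fin b × Fin e) ⊕ (Fin h × Fin e × Fin d)) → Ω :=
    Sum.elim (Sum.elim (fun p => X p.1 p.2) (fun p => Y p.1 p.2))
      (Sum.elim (fun p => U p.1 p.2) (fun p => Z p.1 p.2.1 p.2.2))
  let A : Subalgebra κ Ω := Algebra.adjoin κ (Set.range el)
  have hA : ∀ t, el t ∈ A := fun t => Algebra.subset_adjoin ⟨t, rfl⟩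
  have hft : Algebra.FiniteType κ A := by
    rw [← Subalgebra.fg_iff_finiteType]
    have hf := (Set.finite_range el).coe_toFinset
    change (Algebra.adjoin κ (Set.range el)).FG
    rw [← hf]
    exact Subalgebra.fg_adjoin_finset _
  obtain ⟨φ⟩ := exists_point κ A
  let XA : Matrix (Fin a) (Fin d) A := Matrix.of fun i m => ⟨X i m, hA (Sum.inl (Sum.inl (i, m)))⟩
  let YA : Matrix (Fin d) (Fin a) A := Matrix.of fun i m => ⟨Y i m, hA (Sum.inl (Sum.inr (i, m)))⟩
  let UA : Matrix (Fin b) (Fin e) A := Matrix.of fun i m => ⟨U i m, hA (Sum.inr (Sum.inl (i, m)))⟩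
  let ZA : Fin h → Matrix (Fin e) (Fin d) A := fun l => Matrix.of fun i m =>
    ⟨Z l i m, hA (Sum.inr (Sum.inr (l, i, m)))⟩
  have hinj : Function.Injective (A.val : A →+* Ω) := Subtype.val_injective
  have h1 : YA * XA = 1 := by
    refine Matrix.map_injective hinj ?_
    change (YA * XA).map (A.val : A →+* Ω) = (1 : Matrix (Fin d) (Fin d) A).map (A.val : A →+* Ω)
    rw [Matrix.map_mul, Matrix.map_one _ (map_zero _) (map_one _)]
    exact hYX
  have h2 : ∀ l, kmap (algebraMap κ A) α l * XA = UA * ZA l := fun l => by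
    refine Matrix.map_injective hinj ?_
    change (kmap (algebraMap κ A) α l * XA).map (A.val : A →+* Ω) = (UA * ZA l).map (A.val : A →+* Ω)
    rw [Matrix.map_mul, Matrix.map_mul]
    exact hZ l
  refine king_matrix hK (XA.map φ) (YA.map φ) (UA.map φ) (fun l => (ZA l).map φ) ?_ fun l => ?_
  · have h3 := congrArg (fun M => M.map (φ : A →+* κ)) h1
    simp only [Matrix.map_mul] at h3
    rw [Matrix.map_one _ (map_zero _) (map_one _)] at h3
    exact h3
  · have h3 := congrArg (fun M => M.map (φ : A →+* κ)) (h2 l)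
    simp only [Matrix.map_mul] at h3
    have h4 : (kmap (algebraMap κ A) α l).map (φ : A →+* κ) = α l := by
      ext i j
      exact φ.commutes _
    rw [h4] at h3
    exact h3

end K656.KingExt
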