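import Groth.Agent.BunMod.K656.Setup
import Groth.Agent.BunMod.K656.Good
import Groth.Agent.BunMod.K656.KingExt

/-!
# `KFit`: cohomological fields, presentation, King's condition (helper656)
-/

set_option autoImplicit false
set_option linter.unusedSectionVars false
universe u
open CategoryTheory CategoryTheory.Limits AlgebraicGeometry TopologicalSpace Opposite Module

namespace K656.Fit

open Groth.Agent Groth.Agent.VarietyA.DegRank K707.Base K707.Deg K707.Slope K707.Semi K707.TensL K708.Coho K708.SSH0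
open K708.PtTwist K703.Duality K656.Hom K656.Num K656.Abs K656.Fib K140.BM LoccohB.HHmap LoccohB.SectLin303
open K656.Setup K656.Good K311.KE

attribute [local instance] overF

variable {k : Type u} [Field k] {X : Scheme.{u}} [X.Over (Spec (CommRingCat.of k))]
  [IsProper (X ↘ Spec (CommRingCat.of k))] [Smooth (X ↘ Spec (CommRingCat.of k))]
  [GeometricallyConnected (X ↘ Spec (CommRingCat.of k))]
  [IsAlgClosed k] (hdim : topologicalKrullDim X = 1) {S : KSet X} {g N M : ℤ} (B : Base k S g N M)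
  {r : ℕ} (n : Nums g N M r) (hr : 0 < r) {a b : ℕ}

/-- Functions on `Spec Ω` as elements of `Ω`. -/
noncomputable def toF (Ω : Type u) [Field Ω] : Γ(Spec (CommRingCat.of Ω), ⊤) →+* Ω :=
  (Scheme.ΓSpecIso (CommRingCat.of Ω)).hom.hom

theorem toF_kOf (Ω : Type u) [Field Ω] (c : Ω) : toF Ω (kOf Ω c) = c :=
  congr($((Scheme.ΓSpecIso (CommRingCat.of Ω)).inv_hom_id).hom c)

theorem kOf_toF (Ω : Type u) [Field Ω] (c : Γ(Spec (CommRingCat.of Ω), ⊤)) : kOf Ω (toF Ω c) = c :=
  congr($((Scheme.ΓSpecIso (CommRingCat.of Ω)).hom_inv_id).hom c)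

section pt

variable {Ω : Type u} [Field Ω] [IsAlgClosed Ω] (s : Spec (CommRingCat.of Ω) ⟶ B0 k)

theorem smul_fT {A F : (XF k X s).Modules} (c : Γ((tpt s).left, ⊤)) (φ : A ⟶ F) :
    toF Ω c • φ = fT k X (tpt s) c • φ := by
  rw [smul_bridge]
  change (PicF.XTproj (st k X) (tpt s)).appTop (kOf Ω (toF Ω c)) • φ = _
  rw [kOf_toF]
  rfl

/-- The relations of `E_α`, as relations over `Ω`. -/
theorem rel_KE (α : Kr a b S.h Γ((tpt s).left, ⊤)) :
    letI := isIntegral_F (X := X) s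
    letI := isProper_F (X := X) s
    Rel (sett hdim B s) (kmap (toF Ω) α) (KE.v S.toKDat (tpt s) α) (KE.w S.toKDat (tpt s) α) := by
  letI := isIntegral_F (X := X) s
  letI := isProper_F (X := X) s
  intro l i
  refine (rel_eq S.toKDat (tpt s) α l i).trans (Finset.sum_congr rfl fun j _ => ?_)
  exact (smul_fT s (α i j l) _).symm

theorem rel_of {E : (XF k X s).Modules} {v : Fin a → (cst k (tpt s) S.L₁ ⟶ E)} {w : Fin b → (cst k (tpt s) S.L₂ ⟶ E)}
    {α : Kr a b S.h Γ((tpt s).left, ⊤)} (h : ∀ (l : Fin a) (i : Fin S.h),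
        (Scheme.Modules.pullback (pullback.fst (st k X) (tpt s).hom)).map (S.s i) ≫ v l =
          ∑ j, smulHom _ (fT k X (tpt s) (α i j l)) ≫ w j) :
    letI := isIntegral_F (X := X) s
    letI := isProper_F (X := X) s
    Rel (sett hdim B s) (kmap (toF Ω) α) v w := by
  letI := isIntegral_F (X := X) s
  letI := isProper_F (X := X) s
  intro l i
  refine (h l i).trans (Finset.sum_congr rfl fun j _ => ?_)
  exact (smul_fT s (α i j l) _).symm

/-- Homomorphisms out of a module generated by a basis. -/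
theorem ext_of_bas {L E Z : (XF k X s).Modules} (hg : Gen L E) {v : Fin a → (L ⟶ E)} (hv : Bas (k := Ω) v)
    {φ ψ : E ⟶ Z} (h : ∀ l, v l ≫ φ = v l ≫ ψ) : φ = ψ := by
  have := isIntegral_F (X := X) s
  have := isProper_F (X := X) s
  rw [← sub_eq_zero]
  refine hg _ _ fun u => ?_
  obtain ⟨x, rfl⟩ := hv.2 u
  rw [lc_comp, Fintype.linearCombination_apply]
  refine Finset.sum_eq_zero fun l _ => ?_
  rw [Preadditive.comp_sub, h l, sub_self, smul_zero]

include hdim B n hr in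
/-- **The presentation.** -/
theorem pres {E : (XF k X s).Modules} (hE : SSB r s E) (v : Fin a → (cst k (tpt s) S.L₁ ⟶ E))
    (w : Fin b → (cst k (tpt s) S.L₂ ⟶ E)) (hv : HomBasis (PicF.XTproj (st k X) (tpt s)) v)
    (hw : HomBasis (PicF.XTproj (st k X) (tpt s)) w) (α : Kr a b S.h Γ((tpt s).left, ⊤))
    (h : ∀ (l : Fin a) (i : Fin S.h), (Scheme.Modules.pullback (pullback.fst (st k X) (tpt s).hom)).map (S.s i) ≫ v l =
      ∑ j, smulHom _ (fT k X (tpt s) (α i j l)) ≫ w j) : IsIso (KE.desc S.toKDat (tpt s) α v w h) := by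
  letI := isIntegral_F (X := X) s
  letI := isProper_F (X := X) s
  obtain ⟨h1, h2, h3, h4⟩ := (ssb_iff hdim s).mp hE
  have hv' : Bas (k := Ω) v := (homBasis_iff v).mp hv
  have hw' : Bas (k := Ω) w := (homBasis_iff w).mp hw
  obtain ⟨f, hf1, hf2⟩ := pres_lift (sett hdim B s) n h1 h2 h3 h4 hr hv' hw' (rel_of hdim B s h)
    (KE.v S.toKDat (tpt s) α) (KE.w S.toKDat (tpt s) α) (rel_KE hdim B s α)
  refine ⟨f, K311.KE.hom_ext S.toKDat (fun l => ?_) (fun j => ?_), ?_⟩
  · rw [← Category.assoc, v_desc, Category.comp_id]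
    exact hf1 l
  · rw [← Category.assoc, w_desc, Category.comp_id]
    exact hf2 j
  · refine ext_of_bas s (gen₁ (sett hdim B s) n h1 h2 h3 h4 hr) hv' fun l => ?_
    have h5 : v l ≫ f = KE.v S.toKDat (tpt s) α l := hf1 l
    have h6 : KE.v S.toKDat (tpt s) α l ≫ KE.desc S.toKDat (tpt s) α v w h = v l := by rw [v_desc]
    exact (Category.assoc _ _ _).symm.trans ((congrArg (fun z => z ≫ KE.desc S.toKDat (tpt s) α v w h) h5).trans
      (h6.trans (Category.comp_id _).symm))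

include hdim B n hr in
/-- King's condition for good points. -/
theorem king_pt (ha : (a : ℤ) = r * (N + 1 - g)) (hb : (b : ℤ) = r * (M + 1 - g)) (α : Kr a b S.h Γ((tpt s).left, ⊤))
    (h : GPt S.toKDat r s α) : IsKing (kmap (toF Ω) α) := by
  letI := isIntegral_F (X := X) s
  letI := isProper_F (X := X) s
  obtain ⟨hE, hv, hw⟩ := h
  obtain ⟨h1, h2, h3, h4⟩ := (ssb_iff hdim s).mp hE
  have hv' : Bas (k := Ω) (KE.v S.toKDat (tpt s) α) := (homBasis_iff _).mp hv
  have hw' : Bas (k := Ω) (KE.w S.toKDat (tpt s) α) := (homBasis_iff _).mp hw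
  exact Abs.king (sett hdim B s) n h1 h2 h3 h4 hr ha hb hv'.1 hw'.1 (rel_KE hdim B s α)

end pt

theorem kmap_id_pt {Ω : Type u} [Field Ω] {h : ℕ} (α : Kr a b h Ω) :
    kmap (toF Ω) (kmap (𝟙 (Spec (CommRingCat.of Ω)) : Spec (CommRingCat.of Ω) ⟶ Spec (CommRingCat.of Ω)).appTop.hom
      (kmap (kOf Ω) α)) = α := by
  funext l
  ext i j
  change toF Ω ((𝟙 (Spec (CommRingCat.of Ω)) : Spec (CommRingCat.of Ω) ⟶ Spec (CommRingCat.of Ω)).appTop.hom
    (kOf Ω (α l i j))) = _
  rw [Scheme.Hom.id_appTop]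
  exact toF_kOf Ω _

include hdim B n hr in
theorem king (ha : (a : ℤ) = r * (N + 1 - g)) (hb : (b : ℤ) = r * (M + 1 - g)) (Ω : Type u) [Field Ω] [IsAlgClosed Ω]
    (s : Spec (CommRingCat.of Ω) ⟶ B0 k) (α : Kr a b S.h Ω)
    (h : KGood S.toKDat r (tpt s) (kmap (kOf Ω) α)) : IsKing α := by
  have h1 := ((kgood_iff S.toKDat r _).mp h).2 Ω (𝟙 _)
  have h2 := king_pt hdim B n hr (𝟙 _ ≫ (tpt s).hom) ha hb _ h1
  have h3 := kmap_id_pt α
  exact Eq.mp (congrArg IsKing h3) h2

end K656.Fit
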