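import Groth.Agent.VBCurve.K703.GlobGen
import Groth.Agent.VBCurve.K705.Setup
import Groth.Agent.VBCurve.K708.TensBound
import Groth.Agent.VBCurve.K704.HomK

/-!
# Coherent modules on a curve over an algebraically closed field and an invertible module `L` (helper656)

`Hom(L, F)` in terms of `F ⊗ L'`, `L ⊗ L' ≅ O`:
* `homLin`: `(L ⟶ F) ≃ₗ[k] H⁰(F ⊗ L')`;
* `exists_lift`: if `H¹(S.X₁ ⊗ L') = 0` then `Hom(L, S.X₂) → Hom(L, S.X₃)` is onto;
* `van_of_hom`: `H¹(F ⊗ L') = 0` if there are no nonzero maps `F ⟶ w ⊗ L`;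
* `Gen L F`: `F` is generated by the maps `L ⟶ F`; `gen_of_hom`;
* `finrank_hom_of_van`: Riemann-Roch;
* `finrank_hom_le`: `dim Hom(L, F) ≤ rk F · (N + 1)` if `deg L = -N` and `F` has no invertible submodule of positive degree.
-/

set_option autoImplicit false
set_option linter.unusedSectionVars false
universe u
open CategoryTheory CategoryTheory.Limits AlgebraicGeometry TopologicalSpace Opposite Module

namespace K656.Num

open Groth.Agent Groth.Agent.VarietyA.DegRank K707.Base K707.Deg K707.Slope K707.Semi K707.TensL K708.Coho K708.SSH0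
open K708.PtTwist K708.Coprod

section coprod

variable {X : Scheme.{u}}

/-- The short complex `P_n → P_{n+1} → L`. -/
noncomputable def splitSC (L : X.Modules) (n : ℕ) : ShortComplex X.Modules :=
  ShortComplex.mk (Sigma.desc fun i : Fin n => Sigma.ι (fun _ : Fin (n + 1) => L) i.succ)
    (proj (fun _ : Fin (n + 1) => L) 0) (by
      apply Sigma.hom_ext
      intro i
      rw [Sigma.ι_desc_assoc, ι_proj_ne _ (Fin.succ_ne_zero i), comp_zero])

theorem split_f_r (L : X.Modules) (n : ℕ) :
    (Sigma.desc fun i : Fin n => Sigma.ι (fun _ : Fin (n + 1) => L) i.succ) ≫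
      lift (fun _ : Fin n => L) (fun i => proj (fun _ : Fin (n + 1) => L) i.succ) =
        𝟙 (∐ fun _ : Fin n => L) := by
  apply Sigma.hom_ext
  intro j
  rw [Sigma.ι_desc_assoc, Category.comp_id, comp_lift, lift, Finset.sum_eq_single j]
  · rw [ι_proj_self, Category.id_comp]
  · intro i _ hi
    rw [ι_proj_ne _ (fun h => hi (Fin.succ_injective _ h).symm), zero_comp]
  · intro h
    exact absurd (Finset.mem_univ j) h

theorem split_id (L : X.Modules) (n : ℕ) :
    lift (fun _ : Fin n => L) (fun i => proj (fun _ : Fin (n + 1) => L) i.succ) ≫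
        (Sigma.desc fun i : Fin n => Sigma.ι (fun _ : Fin (n + 1) => L) i.succ) +
      proj (fun _ : Fin (n + 1) => L) 0 ≫ Sigma.ι (fun _ : Fin (n + 1) => L) 0 =
        𝟙 (∐ fun _ : Fin (n + 1) => L) := by
  have h := sum_proj_ι (fun _ : Fin (n + 1) => L)
  rw [Fin.sum_univ_succ] at h
  refine Eq.trans ?_ h
  refine (add_comm _ _).trans (congrArg (proj (fun _ : Fin (n + 1) => L) 0 ≫ Sigma.ι (fun _ : Fin (n + 1) => L) 0 + ·) ?_)
  rw [lift, Preadditive.sum_comp]
  refine Finset.sum_congr rfl fun i _ => ?_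
  rw [Category.assoc, Sigma.ι_desc]

noncomputable def splitting (L : X.Modules) (n : ℕ) : (splitSC L n).Splitting where
  r := lift (fun _ : Fin n => L) fun i => proj (fun _ : Fin (n + 1) => L) i.succ
  s := Sigma.ι (fun _ : Fin (n + 1) => L) 0
  f_r := split_f_r L n
  s_g := ι_proj_self _ 0
  id := split_id L n

end coprod

variable {k : Type u} [Field k] {X : Scheme.{u}} [X.Over (Spec (CommRingCat.of k))] [IsIntegral X]
  [IsProper (X ↘ (Spec (CommRingCat.of k)))]

theorem coprod_numbers (C : Crv k X) {L : X.Modules} (hL : Coh.IsCoh L) (n : ℕ) :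
    Coh.IsCoh (∐ fun _ : Fin n => L) ∧ rk (∐ fun _ : Fin n => L) = n * rk L ∧
      dg k (∐ fun _ : Fin n => L) = n * dg k L := by
  have := isLocNoeth C
  induction n with
  | zero =>
    have hz : IsZero (∐ fun _ : Fin 0 => L) := by
      rw [IsZero.iff_id_eq_zero]
      apply Sigma.hom_ext
      intro i
      exact i.elim0
    refine ⟨Groth.Agent.Sga67.CohBasic.isCoh_of_isZero hz, ?_, ?_⟩
    · rw [rk_of_isZero hz]; simp
    · rw [dg_of_isZero hz]; simp
  | succ n ih =>
    obtain ⟨h1, h2, h3⟩ := ih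
    have hS : (splitSC L n).ShortExact := (splitting L n).shortExact
    have hc : Coh.IsCoh (∐ fun _ : Fin (n + 1) => L) := CycB.CohProp.isCoh_extension _ hS h1 hL
    refine ⟨hc, ?_, ?_⟩
    · have := rk_add' k _ hS hc
      replace this : rk (∐ fun _ : Fin (n + 1) => L) = rk (∐ fun _ : Fin n => L) + rk L := this
      rw [this, h2]; ring
    · have := dg_add k _ hS h1 hc hL
      replace this : dg k (∐ fun _ : Fin (n + 1) => L) = dg k (∐ fun _ : Fin n => L) + dg k L := this
      rw [this, h3]; push_cast; ring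

theorem vb_coprod {L : X.Modules} (hL : FlatMod.IsFinLocFree L) (n : ℕ) :
    FlatMod.IsFinLocFree (∐ fun _ : Fin n => L) := isFinLocFree_coproduct _ fun _ => hL

/-- Submodules of `L^n`. -/
theorem dg_le_of_mono_coprod (C : Crv k X) {L G : X.Modules} (hL : PicF.IsInvertible L) {n : ℕ}
    (hG : Coh.IsCoh G) (i : G ⟶ ∐ fun _ : Fin n => L) [Mono i] : dg k G ≤ rk G * dg k L := by
  have hGv : FlatMod.IsFinLocFree G := vb_of_mono C i hG (vb_coprod (vb_of_inv hL) n)
  refine K708.TensBound.dg_le_of_joint C hL (rk G) G hGv rfl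
    (fun j : Fin n => i ≫ proj (fun _ : Fin n => L) j) fun T g hg => ?_
  rw [← cancel_mono i, zero_comp]
  have h1 := eq_lift (fun _ : Fin n => L) (g ≫ i)
  rw [h1, lift]
  refine Finset.sum_eq_zero fun j _ => ?_
  have := hg j
  rw [← Category.assoc] at this
  rw [this, zero_comp]

/-- **Maps from the kernel of `L^c → G` to invertible modules of very negative degree vanish.** -/
theorem hom_kernel_eq_zero (C : Crv k X) {L G M : X.Modules} (hL : PicF.IsInvertible L)
    (hM : PicF.IsInvertible M) {c : ℕ} (hG : Coh.IsCoh G) (p : (∐ fun _ : Fin c => L) ⟶ G) [Epi p]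
    (h : dg k M < (rk G + 1) * dg k L - dg k G) (f : kernel p ⟶ M) : f = 0 := by
  by_contra hf
  obtain ⟨hc, hr, hd⟩ := coprod_numbers C (coh_inv hL) c
  have hK := vb_kernel C p (vb_coprod (vb_of_inv hL) c) hG
  obtain ⟨I, q, j, hq, hj, hqj, hI, hpos, e1, e2, e3, e4⟩ := exists_factor_pos C f hf (coh_of_vb hK) (vb_of_inv hM)
  obtain ⟨n1, n2⟩ := epi_numbers C p hc hG
  rw [rk_inv hM] at e3
  have hI1 : rk I = 1 := by omega
  have h1 := dg_le_of_mono C j (coh_of_vb hI) (coh_inv hM) (by rw [hI1, rk_inv hM])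
  have h2 := dg_le_of_mono_coprod C hL (coh_kernel C f (coh_of_vb hK) (coh_inv hM)) (kernel.ι f ≫ kernel.ι p)
  rw [hr, rk_inv hL, mul_one] at n1
  rw [hd] at n2
  have h3 : (rk (kernel f) : ℤ) = c - rk G - 1 := by omega
  rw [h3] at h2
  have h4 : dg k I = c * dg k L - dg k G - dg k (kernel f) := by linarith
  nlinarith

end K656.Num
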